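import Cfsg.Statements.S4468
import Cfsg.Agent.Lib.Lin.PRat

set_option autoImplicit false
open Cfsg

namespace Cfsg.Agent.S4468

/-- Let the finite p-solvable group G have a faithful character χ of degree n ≤ p − 1 and suppose that a Sylow p-subgroup of G is not normal. Then n = p − 1, n is a power of 2, and χ is irreducible. -/
theorem result {G : Type*} [Group G] [Finite G] (χ : G → ℂ) (hχ : Cfsg.IsCharacter G χ) (hfaith : ∀ g : G, χ g = χ 1 → g = 1) (n : ℕ) (hn : Cfsg.charDegree χ = n) (p : ℕ) (hp : p.Prime) (hsolv : Cfsg.IsPSolvable p G) (hnp : n + 1 ≤ p) (P : Sylow p G) (hP : ¬ (P : Subgroup G).Normal) : n + 1 = p ∧ (∃ k : ℕ, n = 2 ^ k) ∧ Cfsg.IsIrrCharacter G χ := by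
  have := Fact.mk hp
  subst hn
  have hk := hχ.ker_eq_bot_iff.2 hfaith
  obtain ⟨K, R, hK, hR, hn, hC, hi⟩ := LG.exists_complement_pair hsolv
  obtain ⟨q, hq, Q, hQ, hRQ, hc⟩ : ∃ q, ∃ _ : Fact q.Prime, ∃ Q : Subgroup G,
      GT.IsSylowIn q Q K ∧ R ≤ Subgroup.normalizer (Q : Set G) ∧
      ¬ Q ≤ Subgroup.centralizer (R : Set G) := by
    by_contra! h
    have h1 : K ≤ Subgroup.centralizer (R : Set G) :=
      GT.le_of_forall_exists_isSylowIn_le fun q hq => by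
        obtain ⟨Q, h1, h2⟩ := (GT.coprimeAct_of_isPGroup_left hn hR hK).exists_isSylowIn q
        exact ⟨Q, h1, h q hq Q h1 h2⟩
    rw [Subgroup.relIndex_eq_one.2 ((le_inf le_rfl (Subgroup.le_centralizer_iff.1 h1)).trans hC),
      eq_comm, Nat.pow_eq_one, Nat.factorization_eq_zero_iff] at hi
    refine hP ((GT.normal_sylow_iff_not_dvd_index_pCore P).2 fun hd => ?_)
    simp [hp.ne_one, hp, hd, (GT.index_pos _).ne'] at hi
  have hQp : ¬ p ∣ Nat.card Q := fun h => hK (h.trans (Subgroup.card_dvd_of_le hQ.le))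
  simp only [SetLike.not_le_iff_exists, Subgroup.mem_centralizer_iff, not_forall] at hc
  obtain ⟨y, hy, x, hx, hxy⟩ := hc
  let x' : (R ⊔ Q : Subgroup G) := ⟨x, Subgroup.mem_sup_left hx⟩
  let y' : (R ⊔ Q : Subgroup G) := ⟨y, Subgroup.mem_sup_right hy⟩
  have hχ' := hχ.res (R ⊔ Q)
  obtain ⟨ψ, hψ, hψk⟩ : ∃ ψ : Cfsg.IrrCharacter (R ⊔ Q : Subgroup G),
      CT.ip (CT.res _ χ) ψ.1 ≠ 0 ∧ x' * y' * x'⁻¹ * y'⁻¹ ∉ CT.ker ψ.1 := by
    by_contra! h
    have := hχ'.mem_ker_iff_forall_irr.2 h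
    rw [hχ.ker_res, hk, Subgroup.mem_subgroupOf, Subgroup.mem_bot] at this
    exact hxy (mul_inv_eq_iff_eq_mul.1 (mul_inv_eq_one.1 this))
  obtain ⟨Ψ, h1, h2, h3, h4⟩ := LG.exists_rational_companion hQp hR hRQ ψ.2.isCharacter
  obtain ⟨b, hb⟩ := hR ⟨x, hx⟩
  have h5 := LG.sub_one_le_of_rational hp h1 (g := x') (a := b)
    (Subtype.ext (congrArg Subtype.val hb :)) (h3 x' hx) fun h => hψk (h4 _ h y' hy)
  have h6 := hχ'.degree_le_of_ip_ne_zero ψ hψ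
  rw [CT.charDegree_res] at h6
  have h7 : Cfsg.charDegree χ = Cfsg.charDegree ψ.1 := by omega
  have h8 : Cfsg.charDegree χ + 1 = p := by omega
  refine ⟨h8, ?_, CT.isIrr_of_isIrr_res hχ
    (hχ'.eq_irr_of_ip_ne_zero_of_degree_le ψ hψ h7.le ▸ ψ.2)⟩
  have h9 : Cfsg.charDegree χ ∣ Nat.card Q := by
    refine Nat.Coprime.dvd_of_dvd_mul_left (hR.coprime_card fun h => ?_).symm
      ((h7 ▸ CT.irr_degree_dvd_card ψ).trans (GT.card_sup_dvd_of_le_normalizer hRQ))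
    have := Nat.le_of_dvd (h7 ▸ CT.irr_degree_pos ψ) h
    omega
  rw [hQ.card_eq] at h9
  obtain ⟨k, -, hk'⟩ := (Nat.dvd_prime_pow hq.1).1 h9
  rcases hp.eq_two_or_odd' with rfl | ho
  · exact ⟨0, by omega⟩
  · have : 2 ∣ q ^ k := by rw [← hk']; obtain ⟨m, hm⟩ := ho; omega
    exact ⟨k, by rw [(Nat.prime_dvd_prime_iff_eq Nat.prime_two hq.1).1
      (Nat.prime_two.dvd_of_dvd_pow this), hk']⟩

end Cfsg.Agent.S4468
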