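import Cfsg.Statements.S4461
import Cfsg.Agent.Lib.Char.Degrees2
import Cfsg.Agent.Lib.Grp.Fitting

set_option autoImplicit false
open Cfsg

namespace Cfsg.Agent.S4461

open CT MulAction
universe u
open scoped commutatorElement

theorem isIrr_res_of_sup_ker {G : Type*} [Group G] [Finite G] (χ : IrrCharacter G)
    {H : Subgroup G} (h : H ⊔ ker χ.1 = ⊤) : IsIrrCharacter H (res H χ.1) := by
  obtain ⟨ψ, h1, -⟩ := exists_faithful_inflate_eq χ
  have h2 : Function.Surjective ((QuotientGroup.mk' (ker χ.1)).comp H.subtype) := by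
    rw [← MonoidHom.range_eq_top, MonoidHom.range_comp, Subgroup.range_subtype,
      GT.map_mk'_eq_top_iff, h]
  have h3 := ψ.2.comp_of_surjective _ h2
  have h4 : res H χ.1 = fun x : H => ψ.1 ((QuotientGroup.mk' (ker χ.1)).comp H.subtype x) := by
    funext x
    rw [res_apply]
    conv_lhs => rw [← h1]
    rfl
  rwa [h4]

theorem aux {G : Type*} [Group G] [Finite G] (χ : IrrCharacter G) {H : Subgroup G}
    (hH : IsCoatom H) (h : ¬ ker χ.1 ≤ H) :
    (∃ ψ : IrrCharacter G, charDegree χ.1 < charDegree ψ.1 ∧ ker ψ.1 < ker χ.1) ∨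
      ∀ x ∈ H, χ.1 x ≠ 0 → x ∈ H.normalCore := by
  have hs : ∀ L : Subgroup G, ¬ L ≤ H → H ⊔ L = ⊤ := fun L hL =>
    hH.2 _ (lt_of_le_of_ne le_sup_left fun e => hL (e ▸ le_sup_right))
  let θ : IrrCharacter H := ⟨_, isIrr_res_of_sup_ker χ (hs _ h)⟩
  by_cases h1 : ∀ ψ : IrrCharacter G, LiesOver H ψ.1 θ.1 → res H ψ.1 = θ.1
  · exact Or.inr fun x hx hx0 => mem_normalCore_of_forall_res_eq h1 (x := ⟨x, hx⟩) hx0
  · push Not at h1
    obtain ⟨ψ, h1, h2⟩ := h1
    refine Or.inl ⟨ψ, ?_, ?_⟩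
    · by_contra h3
      exact h2 (h1.res_eq_of_degree_le (irr_isCharacter ψ) (not_lt.1 h3))
    · have h3 : ker ψ.1 ≤ H := by
        by_contra h3
        exact h2 (congrArg Subtype.val
          (irr_eq_of_ip_ne_zero (χ := ⟨_, isIrr_res_of_sup_ker ψ (hs _ h3)⟩) (ψ := θ) h1))
      have h4 := ker_le_ker_of_ip_ne_zero ((irr_isClassFunction ψ).res H) h1
      rw [(irr_isCharacter ψ).ker_res] at h4
      change _ ≤ ker (res H χ.1) at h4
      rw [(irr_isCharacter χ).ker_res] at h4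
      refine lt_of_le_of_ne (fun x hx => h4 (x := ⟨x, h3 hx⟩) hx) fun e => h (e ▸ h3)

theorem main {G : Type*} [Group G] [Finite G] (χ : IrrCharacter G)
    (h : ¬ ker χ.1 ≤ fittingSubgroup G ∨
      (ker χ.1 = fittingSubgroup G ∧ Group.IsSolvable G ∧ ker χ.1 ≠ ⊤)) :
    ∃ ψ : IrrCharacter G, charDegree χ.1 < charDegree ψ.1 ∧ ker ψ.1 < ker χ.1 := by
  by_contra hcon
  have key : ∀ H : Subgroup G, IsCoatom H → ¬ ker χ.1 ≤ H →
      ∀ x ∈ H, χ.1 x ≠ 0 → x ∈ H.normalCore := fun H hH h1 => (aux χ hH h1).resolve_left hcon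
  set K := ker χ.1 with hK
  rcases h with h | ⟨h1, h2, h3⟩
  · refine h (GT.le_fitting_iff.2 (GT.isNilpotent_of_forall_exists_isSylowIn fun p _ _ => ?_))
    obtain ⟨P, hP⟩ := GT.exists_isSylowIn p K
    refine ⟨P, hP, ?_⟩
    by_contra h1
    have h2 : Subgroup.normalizer (P : Set G) ≠ ⊤ := fun e => h1 (e ▸ le_top)
    obtain ⟨H, hH, h3⟩ := GT.exists_isCoatom_ge h2
    have h4 : ¬ K ≤ H := fun e => hH.1 (eq_top_iff.2 (hP.frattini_top ▸ sup_le e h3))
    have h5 : P ≤ K ⊓ H.normalCore := fun x hx => ⟨hP.le hx, key H hH h4 x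
      (h3 (Subgroup.le_normalizer hx)) (by
        rw [ker_apply_eq (hP.le hx)]; exact irr_apply_one_ne_zero χ)⟩
    have h6 := (hP.of_le h5 inf_le_left).frattini_top
    exact hH.1 (eq_top_iff.2 (h6 ▸ sup_le (inf_le_right.trans H.normalCore_le) h3))
  · have h4 : ∀ g, g ∉ K → χ.1 g = 0 := by
      intro g hg
      by_contra h0
      refine hg (h1 ▸ GT.le_fitting_of_commutator_le_frattini
        (H := ⨅ H : {H : Subgroup G // IsCoatom H ∧ ¬ K ≤ H}, H.1.normalCore ⊔ K) ?_ ?_)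
      · rw [GT.le_frattini_iff, ← h1]
        intro M hM
        by_cases h5 : K ≤ M
        · exact (Subgroup.commutator_le_right _ _).trans h5
        · refine le_trans (Subgroup.commutator_mono (iInf_le _ ⟨M, hM, h5⟩) le_rfl) ?_
          refine le_trans (Subgroup.commutator_le.2 fun a ha k hk => ?_) M.normalCore_le
          obtain ⟨n, hn, k', hk', rfl⟩ := (Subgroup.mem_sup_of_normal_left).1 ha
          have h6 : ⁅k', k⁆ ∈ M.normalCore := by
            refine Subgroup.normal_le_normalCore.2 (GT.le_frattini_iff.1 le_rfl M hM) ?_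
            refine GT.commutator_fitting_le_frattini ?_
            rw [← h1]
            exact Subgroup.commutator_mem_commutator hk' hk
          have h7 : ⁅n * k', k⁆ = n * ⁅k', k⁆ * (k * n⁻¹ * k⁻¹) := by
            simp only [commutatorElement_def]; group
          rw [h7]
          exact mul_mem (mul_mem hn h6) (Subgroup.Normal.conj_mem inferInstance _ (inv_mem hn) k)
      · rw [Subgroup.mem_iInf]
        rintro ⟨H, hH, h5⟩
        have h6 : H ⊔ K = ⊤ := hH.2 _ (lt_of_le_of_ne le_sup_left fun e => h5 (e ▸ le_sup_right))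
        obtain ⟨x, hx, k, hk, rfl⟩ := (Subgroup.mem_sup_of_normal_right).1
          (h6 ▸ Subgroup.mem_top g : g ∈ H ⊔ K)
        rw [ker_apply_mul_right (irr_isClassFunction χ) hk] at h0
        exact Subgroup.mul_mem_sup (key H hH h5 x hx h0) hk
    have h5 : χ ≠ irrOne G := fun e => h3 ((ker_irr_eq_top_iff χ).2 e)
    exact (irr_degree_sq_lt_index_of_le_ker h5 le_rfl).ne
      ((irr_degree_sq_eq_index_iff χ (ker_le_center _)).2 h4)

/-- Let χ be an irreducible character of the finite group G and K its kernel (the elements where χ takes the value χ(1)). Suppose either that K is not contained in the Fitting subgroup F(G), or that K = F(G) with G/K solvable and K ≠ G. Then there is an irreducible character ψ of G with ψ(1) > χ(1) whose kernel is properly contained in K. -/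
theorem result {G : Type*} [Group G] [Finite G] (χ : Cfsg.IrrCharacter G) (K : Subgroup G) [K.Normal] (hK : (∀ g : G, g ∈ K ↔ (χ : G → ℂ) g = (χ : G → ℂ) 1)) (h : ¬ K ≤ Cfsg.fittingSubgroup G ∨ (K = Cfsg.fittingSubgroup G ∧ Group.IsSolvable (G ⧸ K) ∧ K ≠ ⊤)) : ∃ ψ : Cfsg.IrrCharacter G, Cfsg.charDegree (χ : G → ℂ) < Cfsg.charDegree (ψ : G → ℂ) ∧ ∃ L : Subgroup G, (∀ g : G, g ∈ L ↔ (ψ : G → ℂ) g = (ψ : G → ℂ) 1) ∧ L < K := by
  have e : K = ker χ.1 := Subgroup.ext fun g => (hK g).trans (irr_mem_ker_iff χ).symm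
  subst e
  obtain ⟨ψ, h1, h2⟩ := main χ (h.imp id fun ⟨h1, h2, h3⟩ => ⟨h1, by
    have : Group.IsSolvable (QuotientGroup.mk' (ker χ.1)).ker := by
      rw [QuotientGroup.ker_mk', h1]; infer_instance
    exact solvable_of_ker_le_range (QuotientGroup.mk' (ker χ.1)).ker.subtype
      (QuotientGroup.mk' (ker χ.1)) (by simp), h3⟩)
  exact ⟨ψ, h1, ker ψ.1, fun g => irr_mem_ker_iff ψ, h2⟩

end Cfsg.Agent.S4461
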