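import Cfsg.Statements.S4473
import Cfsg.Agent.Lib.Lin.Poles

set_option autoImplicit false
open Cfsg

namespace Cfsg.Agent.S4473

/-- Let the finite group G have a faithful irreducible character χ of degree 2 that is primitive: χ is not induced from a character of any proper subgroup. Then the centre of G has index 12, 24 or 60. -/
theorem result {G : Type*} [Group G] [Fintype G] (χ : Cfsg.IrrCharacter G) (hfaith : ∀ g : G, (χ : G → ℂ) g = (χ : G → ℂ) 1 → g = 1) (h2 : Cfsg.charDegree (χ : G → ℂ) = 2) (hprim : ∀ H : Subgroup G, H ≠ ⊤ → ∀ θ : H → ℂ, Cfsg.IsCharacter H θ → (χ : G → ℂ) ≠ Cfsg.indFun H θ) : (Subgroup.center G).index = 12 ∨ (Subgroup.center G).index = 24 ∨ (Subgroup.center G).index = 60 := by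
  obtain ⟨n, ρ, -, hρ⟩ := χ.2
  have hχ := χ.2.isCharacter
  have hker : CT.ker χ.1 = ⊥ := hχ.ker_eq_bot_iff.2 hfaith
  have hZ := CT.irr_center_eq_of_faithful χ hker
  let _ : DistribMulAction G (Fin n → ℂ) := DistribMulAction.compHom _ ρ
  have hs : ∀ (g : G) (v : Fin n → ℂ), g • v = ρ g v := fun _ _ => rfl
  have : SMulCommClass G ℂ (Fin n → ℂ) := ⟨fun g c v => (ρ g).map_smul c v⟩
  have hV : Module.finrank ℂ (Fin n → ℂ) = 2 := by rw [← CT.charDegree_rep ρ, hρ, h2]
  have hc : ∀ g, g ∈ Subgroup.center G ↔ ∃ c : ℂ, ρ g = c • 1 := fun g => by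
    rw [← hZ, ← hρ, CT.rep_mem_center_iff]
  refine LG.poles_count (Y := Projectivization ℂ (Fin n → ℂ)) _ (fun z hz x => ?_)
    (fun g hg => LG.card_fixedBy_proj ρ hs hV fun c h => hg ((hc g).2 ⟨c, h⟩)) (fun x => ?_) ?_
  · induction x using Projectivization.ind with | h v hv
    obtain ⟨c, h⟩ := (hc z).1 hz
    exact (LG.smul_mk_eq_iff z hv).2 ⟨c, by rw [hs, h]; rfl⟩
  · obtain ⟨θ, hθ⟩ := LG.exists_liesOver_stabilizer ρ hs x
    rw [hρ] at hθ
    have hθc := (CT.isIrrCharacter_of_monoidHom θ).isCharacter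
    have hd : Cfsg.charDegree (fun g => θ g) = 1 := CT.charDegree_eq_of_apply_one (by simp)
    have h1 := CT.LiesOver.degree_le_index_mul hθc hθ
    rw [hd, h2, mul_one] at h1
    by_contra h3
    refine hprim _ (fun h => ?_) _ hθc ?_
    · rw [h, Subgroup.index_top] at h1; omega
    · rw [CT.indFun_eq_ind]
      refine (hθc.ind.eq_irr_of_ip_ne_zero_of_degree_le χ ?_ ?_).symm
      · rw [hθc.ind.ip_comm hχ]
        exact (CT.liesOver_iff_ip_ind _ _ hχ.isClassFunction).1 hθ
      · rw [CT.charDegree_ind hθc, hd, h2]; omega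
  · rw [← hZ, Ne, CT.irr_center_eq_top_iff, h2]; norm_num

end Cfsg.Agent.S4473
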