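import Cfsg.Statements.S4558
import Cfsg.Agent.Lib.Char.Values

set_option autoImplicit false
open Cfsg

namespace Cfsg.Agent.S4558


/-- Let χ be a character of the finite group G and g an element of p-power order for the prime p. If χ g = 0, then p divides the degree of χ. -/
theorem result {G : Type*} [Group G] [Finite G] (p : ℕ) [Fact p.Prime] (χ : G → ℂ) (hχ : Cfsg.IsCharacter G χ) (g : G) (hg : ∃ j : ℕ, orderOf g = p ^ j) (h0 : χ g = 0) : p ∣ Cfsg.charDegree χ := by
  have hp : p.Prime := Fact.out
  obtain ⟨j, hj⟩ := hg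
  have h := hχ.isGen.int_modEq_of_commute hp (Commute.one_right g) (k := j)
    (by rw [← hj, pow_orderOf_eq_one]) (a := 0) (b := (charDegree χ : ℤ))
    (by rw [mul_one, h0]; simp) (by rw [hχ.apply_one]; simp)
  have h2 := h.dvd
  rw [sub_zero] at h2
  exact Int.natCast_dvd_natCast.mp h2

end Cfsg.Agent.S4558
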