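import Cfsg.Statements.S4577
import Cfsg.Agent.Lib.Block.E16Ht
import Cfsg.Agent.Lib.Block.FreeHt

set_option autoImplicit false
open Cfsg

namespace Cfsg.Agent.S4577

/-- Let G be a finite group, M a maximal ideal of the algebraic integers containing 2, and B a 2-block of G with a defect group D of order 16. For every irreducible character χ in B, 2 raised to the height of χ is at most the index of the centre Z(D) in D, with equality exactly when D is abelian. -/
theorem result {G : Type*} [Group G] [Finite G] (M : Ideal Cfsg.AlgInt) (hM : Cfsg.IsPModular 2 M) (B : Set (Cfsg.IrrCharacter G)) (hB : Cfsg.IsPBlock M B) (D : Subgroup G) (hD : Cfsg.IsDefectGroup 2 M B D) (h16 : Nat.card D = 16) (χ : Cfsg.IrrCharacter G) (hχ : χ ∈ B) :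
    Cfsg.blockHeight 2 B (χ : G → ℂ) ≤ ((Subgroup.center D).index).factorization 2 ∧
      (Cfsg.blockHeight 2 B (χ : G → ℂ) = ((Subgroup.center D).index).factorization 2 ↔ IsMulCommutative D) := by
  refine BT.height_le_index_center hM hB hD fun h => ?_
  by_cases hab : IsMulCommutative D
  · obtain ⟨m, hm, rfl⟩ := BT.exists_maxP hM hB hD
    obtain ⟨A, _, _, ι, E, hA⟩ := hm.exists_abPar fun x hx y hy =>
      congrArg Subtype.val (hab.is_comm.comm ⟨x, hx⟩ ⟨y, hy⟩)
    have h1 : Nat.card A = 16 := hA.card_eq.symm.trans h16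
    haveI : Nontrivial A := Finite.one_lt_card_iff_nontrivial.1 (by omega)
    exact absurd (hA.height_of_sixteen h1 hχ fun _ hf _ => hA.height_eq_zero_of_free hf χ hχ) h
  · exact BT.height_add_center_lt_sixteen hM hB hD h16 hab hχ h

end Cfsg.Agent.S4577
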