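import Cfsg.Statements.S4621
import Cfsg.Agent.Lib.Base.Prim

set_option autoImplicit false
open Cfsg

namespace Cfsg.Agent.S4621

/-- Let F be a finite field of odd characteristic, V a finite-dimensional vector space over F, and G a finite solvable group acting faithfully and linearly on V with the order of G coprime to the number of vectors of V. Then there are two vectors x, y ∈ V such that the only element of G fixing both x and y is the identity. -/
theorem result {F : Type*} [Field F] [Fintype F] (hF : ringChar F ≠ 2) {V : Type*} [AddCommGroup V] [Module F V] [FiniteDimensional F V] [Finite V]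
    {G : Type*} [Group G] [Finite G] [Group.IsSolvable G] (ρ : Representation F G V) (hfaith : Function.Injective ρ) (hcop : (Nat.card G).Coprime (Nat.card V)) :
    ∃ x y : V, ∀ g : G, ρ g x = x → ρ g y = y → g = 1 := by
  rcases subsingleton_or_nontrivial V with hV | hV
  · exact ⟨0, 0, fun g _ _ => hfaith (LinearMap.ext fun _ => Subsingleton.elim _ _)⟩
  have hp : Fact (ringChar F).Prime := ⟨CharP.char_is_prime F _⟩
  have hV : ∀ v : V, ringChar F • v = 0 := fun v => by
    rw [← Nat.cast_smul_eq_nsmul F, ringChar.Nat.cast_ringChar, zero_smul]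
  have hd : ringChar F ∣ Nat.card V := by
    obtain ⟨v, hv⟩ := exists_ne (0 : V)
    exact addOrderOf_eq_prime (hV v) hv ▸ addOrderOf_dvd_natCard v
  let f : G →* (V ≃ₗ[F] V) :=
    (LinearMap.GeneralLinearGroup.generalLinearEquiv F V).toMonoidHom.comp ρ.toHomUnits
  have : Finite (V ≃ₗ[F] V) := DFunLike.finite _
  have := Group.isSolvable_of_surjective f.rangeRestrict_surjective
  obtain ⟨x, y, h⟩ := Base2.exists_base_two hF hV f.range fun h1 => hp.out.one_lt.ne'
    (Nat.eq_one_of_dvd_coprimes hcop
      (h1.trans (Subgroup.card_dvd_of_surjective _ f.rangeRestrict_surjective)) hd)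
  exact ⟨x, y, fun g h1 h2 => hfaith (LinearMap.ext fun v => by
    rw [map_one]; exact h (f.rangeRestrict g) h1 h2 v)⟩

end Cfsg.Agent.S4621
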