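import Cfsg.Statements.S4705
import Cfsg.Agent.Lib.Block.PMinusTwo
import Cfsg.Agent.Lib.Block.OneSmall

set_option autoImplicit false
open Cfsg

namespace Cfsg.Agent.S4705

open CT BT GT
open scoped ComplexConjugate

set_option linter.unusedSectionVars false

section
variable {p : ℕ} [hp : Fact p.Prime] {G : Type*} [Group G] [Finite G]
variable {A : Type*} [CommGroup A] [Finite A] {ι : A →* G}

theorem exists_block (H : PrimeSyl p ι) (ζ : IrrCharacter G) (hk : ker ζ.1 = ⊥)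
    (hd : charDegree ζ.1 + 2 = p) (hnc : ¬ ι.range ≤ Subgroup.center G) :
    Nat.card (autN ι) = 2 ∧ cenReg p ι ≤ Subgroup.center G ∧
      ∃ (l : HatNe A) (χ₁ χ₂ : IrrCharacter G), (∀ u ≠ 1, ζ.1 (ι u) = -osum (autN ι) l.1 u) ∧
        (∀ u ≠ 1, χ₁.1 (ι u) = -1) ∧ (∀ u ≠ 1, χ₂.1 (ι u) = 1) ∧
        ∀ g, ¬ p ∣ orderOf g → ζ.1 g + χ₂.1 g = χ₁.1 g := by
  classical
  have := Fintype.ofFinite A
  have hpos := irr_degree_pos ζ
  obtain ⟨M, hM⟩ := exists_pModular hp.out
  obtain ⟨b, X, Y, δ, δ₀, ξ, O⟩ := H.exists_oneStr_of_defect hM rfl (isPBlock_blockOf ζ)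
    (H.blockDefect_ne_zero hM (Nat.not_dvd_of_pos_of_lt hpos (by omega)))
  have hconst : ∀ c, ¬ ∀ u ≠ 1, ζ.1 (ι u) = c := fun c h => hnc
    ((H.range_le_ker_of_const (irr_isCharacter ζ) (by omega) h).trans (hk.le.trans bot_le))
  rcases (O.cyc.mem_iff ζ).1 (mem_blockOf_self hM ζ) with h1 | ⟨l, rfl⟩
  · exact absurd (fun u hu => O.valX_range h1 hu) (hconst _)
  have hval : ∀ u ≠ 1, (Y l).1 (ι u) = -δ₀ * charDegree (ξ 1).1 * osum (autN ι) l.1 u :=
    fun u hu => by
      rw [O.valY l (H.dvd_orderOf hu), H.ind_apply_of_mul rfl _ l.1 (u := u) (H.dvd_orderOf hu)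
        (O.range_le ⟨u, rfl⟩) fun n w hw => O.cen.apply_of_eq l.1 _ (by rw [hw, conjA_spec]),
        irr_apply_one]
      ring
  have he1 : Nat.card (autN ι) ≠ 1 := fun h => hnc
    ((H.range_le_center_of_card_eq_one h _ (by omega)).trans (irr_center_eq_of_faithful _ hk).le)
  have he2 := H.two_mul_card_autN_le (lt_of_le_of_ne (Nat.le_of_dvd (by omega) H.card_autN_dvd)
    fun h => hconst _ fun u hu => by rw [hval u hu, osum_of_card_eq H.card _ h l.2 hu])
  obtain ⟨k, -, hk', -⟩ := (irr_isCharacter (Y l)).exists_hat_mult ι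
  have h1 : ∀ m, (p : ℤ) * k m = charDegree (Y l).1 - δ₀ * charDegree (ξ 1).1 *
      ((if ∃ σ ∈ autN ι, l.1.comp σ.toMonoidHom = m then p else 0) - Nat.card (autN ι)) :=
    fun m => by
      have h2 := sum_osum_mul_conj H.card (autN ι) l.2 m
      rw [Fintype.sum_eq_add_sum_subtype_ne _ 1, osum_one] at h2
      have h3 := hk' m
      rw [H.card, Fintype.sum_eq_add_sum_subtype_ne _ 1, Finset.sum_congr rfl
        fun (u : {v : A // v ≠ 1}) _ => by rw [hval u.1 u.2, mul_assoc], ← Finset.mul_sum,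
        eq_sub_of_add_eq' h2] at h3
      simp only [map_one, Units.val_one, mul_one, irr_apply_one] at h3
      refine Int.cast_injective (α := ℂ) ?_
      push_cast
      rw [← h3]
      ring
  have h2 := h1 1
  have h3 := h1 l.1
  rw [if_neg (by
    rintro ⟨σ, -, h⟩
    exact l.2 (MonoidHom.ext fun u => by simpa using DFunLike.congr_fun h (σ⁻¹ u)))] at h2
  rw [if_pos ⟨1, one_mem _, rfl⟩] at h3
  have hs := irr_degree_pos (ξ 1)
  have he0 := H.card_autN_pos
  have h4 : ∀ k : ℕ, (p : ℤ) * k < p → k = 0 := fun k h => by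
    by_contra h'
    nlinarith [Nat.pos_of_ne_zero h']
  obtain ⟨rfl, hs1, he⟩ : δ₀ = 1 ∧ charDegree (ξ 1).1 = 1 ∧ Nat.card (autN ι) = 2 := by
    rcases O.cyc.sign₀ with rfl | rfl
    · rw [h4 (k l.1) (by nlinarith)] at h3
      have : charDegree (ξ 1).1 = 1 := by nlinarith
      rw [this] at h3
      omega
    · push_cast at h2
      rw [h4 (k 1) (by nlinarith)] at h2
      refine absurd (Nat.dvd_one.1 ((Nat.dvd_add_right (Dvd.intro_left (charDegree (ξ 1).1)
        (show _ = charDegree (Y l).1 by zify; push_cast at h2; linarith))).1 ?_)) he1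
      exact (show p - 1 = charDegree (Y l).1 + 1 by omega) ▸ H.card_autN_dvd
  obtain ⟨j, hj, hj'⟩ := H.exists_inverting ((card_autN H.inj).symm.trans he)
  have hjN : j ∈ Subgroup.normalizer (ι.range : Set G) :=
    mem_normalizer_of_conj_mem (by rintro _ ⟨u, rfl⟩; exact ⟨_, (hj u).symm⟩)
  have hl : l.1⁻¹ ≠ l.1 := fun h => by
    obtain ⟨u, hu⟩ := @exists_ne A H.nontrivial 1
    have h5 : u⁻¹ = u := hat_injective H.card l.2 (by rw [map_inv, ← MonoidHom.inv_apply, h])
    have := Nat.le_of_dvd two_pos (H.orderOf_eq hu ▸ orderOf_dvd_of_pow_eq_one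
      (show u ^ 2 = 1 by rw [sq]; nth_rw 1 [← h5]; simp))
    omega
  have hp0 : (p : ℂ) ≠ 0 := Nat.cast_ne_zero.2 hp.out.ne_zero
  have hV : cenReg p ι ≤ Subgroup.center G := fun y hy => by
    obtain ⟨hy1, hy2⟩ := H.mem_cenReg.1 hy
    have := Fintype.ofFinite (Subgroup.normalizer (ι.range : Set G))
    have hyu : ∀ u, y * ι u = ι u * y := fun u =>
      (Subgroup.mem_centralizer_iff.1 hy1 _ ⟨u, rfl⟩).symm
    obtain ⟨α, β, h5⟩ : ∃ α β : ℂ, ∀ u ≠ 1, (Y l).1 (y * ι u) = α * l.1 u + β * l.1⁻¹ u := by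
      let C := Subgroup.centralizer (ι.range : Set G)
      let F : Subgroup.normalizer (ι.range : Set G) → ℂ := fun n =>
        -(Nat.card C : ℂ)⁻¹ * extendByZero C (ξ 1).1 ((n : G)⁻¹ * y * n)
      refine ⟨∑ n, if n.1 ∈ C then F n else 0, ∑ n, if n.1 ∈ C then 0 else F n, fun u hu => ?_⟩
      have h5 := H.dvd_orderOf_mul hu hy1 hy2
      rw [O.valY l h5, H.ind_apply O.le_normalizer _ h5
        (O.le_normalizer (mul_mem hy1 (O.range_le ⟨u, rfl⟩))), Finset.sum_mul, Finset.sum_mul,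
        ← Finset.sum_add_distrib, Finset.mul_sum, Finset.mul_sum]
      refine Finset.sum_congr rfl fun n _ => ?_
      have h6 : (n : G)⁻¹ * y * n ∈ C :=
        inv_conj_mem_of_mem_normalizer (normalizer_le_normalizer_centralizer _ n.2) hy1
      have h7 : ∀ v, (n : G)⁻¹ * ι u * n = ι v → extendByZero C (ξ l.1).1
          ((n : G)⁻¹ * (y * ι u) * n) = l.1 v * extendByZero C (ξ 1).1 ((n : G)⁻¹ * y * n) :=
        fun v hv => by
          have h8 : (n : G)⁻¹ * (y * ι u) * n = ι v * ((n : G)⁻¹ * y * n) := by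
            rw [← hv, hyu]; group
          rw [extendByZero_of_mem _ _ (h8 ▸ mul_mem (O.range_le ⟨v, rfl⟩) h6),
            extendByZero_of_mem _ _ h6]
          refine O.cen.val l.1 v h8 ?_
          rw [← Subgroup.orderOf_coe, ← orderOf_eq_of_isConj
            (isConj_iff.2 ⟨(n : G)⁻¹, by simp⟩ : IsConj y _)]
          exact hy2
      split_ifs with h
      · rw [h7 u (by rw [mul_assoc, Subgroup.mem_centralizer_iff.1 h _ ⟨u, rfl⟩]; simp)]
        simp only [F]
        push_cast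
        ring
      · rw [h7 u⁻¹ (by
          have h8 := Subgroup.mem_centralizer_iff.1 ((hj' n n.2).resolve_left h) _ ⟨u, rfl⟩
          have h9 := hj u⁻¹
          rw [inv_inv] at h9
          rw [mul_assoc, inv_mul_eq_iff_eq_mul, ← mul_inv_cancel_right (ι u * n) j⁻¹, mul_assoc _ _ j⁻¹,
            h8, ← h9]
          group)]
        simp only [F, map_inv, MonoidHom.inv_apply]
        push_cast
        ring
    have h6 : ∀ m : A →* ℂˣ, ∑ u, (m u⁻¹ : ℂ) * (Y l).1 (y * ι u) = (Y l).1 y - α - β +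
        α * (if l.1 = m then (p : ℂ) else 0) + β * (if l.1⁻¹ = m then (p : ℂ) else 0) := fun m => by
      rw [← H.card, ← sum_apply_mul_conj_hat, ← sum_apply_mul_conj_hat, Finset.mul_sum,
        Finset.mul_sum, add_assoc, ← Finset.sum_add_distrib, ← sub_eq_iff_eq_add,
        ← Finset.sum_sub_distrib, Finset.sum_eq_single 1 (fun u _ hu => ?_) (by simp)]
      · simp [sub_sub]
      · rw [h5 u hu, units_hom_conj, map_inv]
        ring
    have h7 : ∀ m : A →* ℂˣ, ∑ u, (m u⁻¹ : ℂ) * (Y l).1 (ι u) = Nat.card A * k m := fun m => by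
      simp only [← hk' m, units_hom_conj, map_inv, mul_comm]
    have h8 : ∀ m, (∃ σ ∈ autN ι, l.1.comp σ.toMonoidHom = m) → k m = 0 := fun m hm => h4 _ (by
      rw [h1, if_pos hm, hs1, he]; omega)
    have h9 := (irr_isCharacter (Y l)).sum_mul_eq_zero ι l.1 (by
      rw [h7, h8 l.1 ⟨1, one_mem _, rfl⟩]; simp) hy1
    have h10 := (irr_isCharacter (Y l)).sum_mul_eq_zero ι l.1⁻¹ (by
      rw [h7, h8 _ ⟨MulEquiv.inv A, mem_autN.2 ⟨j, hjN, fun u => (hj u).symm⟩, by ext; simp⟩]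
      simp) hy1
    obtain ⟨w, h11, h12⟩ := (irr_isCharacter (Y l)).exists_isotypic_bound ι 1
    have h13 := (h12 y hy1).2 (by
      rw [h7, mul_right_inj' card_cast_ne_zero, Nat.cast_inj] at h11
      rw [hs1, he] at h2
      exact h11 ▸ Nat.eq_of_mul_eq_mul_left hp.out.pos (by zify; omega))
    rw [h6, if_pos rfl, if_neg hl] at h9
    rw [h6, if_pos rfl, if_neg hl.symm] at h10
    obtain rfl : α = β := mul_right_cancel₀ hp0 (by linear_combination h9 - h10)
    rw [h6, if_neg l.2, if_neg (show ¬ l.1⁻¹ = 1 from fun h =>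
      l.2 (MonoidHom.ext fun u => inv_eq_one.1 (DFunLike.congr_fun h u))), show (Y l).1 y - α - α + α * 0 + α * 0 =
      -(p * α) by linear_combination h9, norm_neg, norm_mul, Complex.norm_natCast, H.card,
      mul_eq_left₀ (Nat.cast_ne_zero.2 hp.out.ne_zero)] at h13
    rw [← irr_center_eq_of_faithful _ hk, irr_mem_center_iff, show (Y l).1 y =
      -(charDegree (Y l).1 * α) by rw [← hd] at h9; push_cast at h9; linear_combination h9,
      norm_neg, norm_mul, h13, Complex.norm_natCast, mul_one]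
  have hNP : NP ⊤ ι.range (sidem hM _ b) = Subgroup.normalizer (ι.range : Set G) := by
    refine le_antisymm NP_le_normalizer fun t ht => (O.cen.mem_NP_iff rfl O.blk H.inj).2
      ⟨ht, fun w w' h => ?_⟩
    obtain ⟨u, y, hy, h5⟩ := H.exists_eq_mul w.2
    obtain ⟨hy1, hy2⟩ := H.mem_cenReg.1 hy
    obtain ⟨v, hv⟩ := (Subgroup.mem_normalizer_iff.1 ht _).1 ⟨u, rfl⟩
    rw [O.cen.val 1 u (y := ⟨y, hy1⟩) h5 (by rwa [← Subgroup.orderOf_coe]),
      O.cen.val 1 v (y := ⟨y, hy1⟩) (by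
        rw [h, h5, hv, mul_assoc, mul_assoc, ← Subgroup.mem_center_iff.1 (hV hy)]; group)
        (by rwa [← Subgroup.orderOf_coe])]
    rfl
  obtain ⟨χ, χ', h5, h6⟩ := Finset.card_eq_two.1 (show (bset X).card = 2 by
    rw [card_bset, O.cyc.card_X, O.card_inert_eq, hNP, ← card_autN H.inj, he])
  have h7 : ∀ θ ∈ bset X, ∀ u ≠ 1, θ.1 (ι u) = δ θ := fun θ h u hu => by
    rw [O.valX_range (mem_bset.1 h) hu, hNP, Subgroup.relIndex_self, hs1]; simp
  have h8 : ∀ θ ∈ bset X, δ θ = -1 → p ≤ charDegree θ.1 + 1 := fun θ h h' => by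
    have := (O.degreeX (mem_bset.1 h)).symm.dvd
    rw [hNP, Subgroup.relIndex_self, hs1, h'] at this
    have := Int.le_of_dvd (by omega) this
    omega
  have h9 := O.cyc.reg l
  have hχ : χ ∈ bset X := by simp [h6]
  have hχ' : χ' ∈ bset X := by simp [h6]
  simp only [h6, Finset.sum_pair h5] at h9
  have h10 : (charDegree (Y l).1 : ℤ) + (δ χ * charDegree χ.1 + δ χ' * charDegree χ'.1) = 0 := by
    have := h9 1 not_dvd_orderOf_one
    simp only [irr_apply_one, Int.cast_one, one_mul] at this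
    exact_mod_cast this
  refine ⟨he, hV, l, ?_⟩
  have h11 : ∀ u ≠ 1, (Y l).1 (ι u) = -osum (autN ι) l.1 u := fun u hu => by
    rw [hval u hu, hs1]; simp
  rcases O.cyc.sign χ (mem_bset.1 hχ) with h | h <;>
    rcases O.cyc.sign χ' (mem_bset.1 hχ') with h' | h' <;> simp only [h, h'] at h9 h10
  · omega
  · exact ⟨χ', χ, h11, fun u hu => by simp [h7 _ hχ' u hu, h'], fun u hu => by simp [h7 _ hχ u hu, h],
      fun g hg => by have := h9 g hg; push_cast at this; linear_combination this⟩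
  · exact ⟨χ, χ', h11, fun u hu => by simp [h7 _ hχ u hu, h], fun u hu => by simp [h7 _ hχ' u hu, h'],
      fun g hg => by have := h9 g hg; push_cast at this; linear_combination this⟩
  · have := h8 χ hχ h
    omega

theorem frac_eq {B C : ℝ} (hB : 0 < B) (hC : 0 < C) (b c : ℂ) :
    ‖b‖ ^ 2 / B + ‖c‖ ^ 2 / C - ‖b + c‖ ^ 2 / (B + C) =
      ‖b * C - c * B‖ ^ 2 / (B * C * (B + C)) := by
  simp only [Complex.sq_norm, Complex.normSq_apply, Complex.add_re, Complex.add_im, Complex.sub_re,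
    Complex.sub_im, Complex.mul_re, Complex.mul_im, Complex.ofReal_re, Complex.ofReal_im]
  field_simp
  ring

theorem frac_lt {q u B C D w x y : ℝ} (hq : 7 ≤ q) (hu : 1 ≤ u) (hB : B + 2 = q)
    (hC : C = q * u + 1) (hD : 0 < D) (hx : 0 ≤ x) (hx' : x ≤ C + (u + 1) * B)
    (hy : 1 + D ≤ y + w) (hw : q * w ≤ 1 + D) :
    x ^ 2 / (B * C * (B + C)) < y ^ 2 / (1 * D * (1 + D)) := by
  obtain rfl : B = q - 2 := by linarith
  subst hC
  have h0 : 0 < q - 2 := by linarith
  have h1 : 0 < q - 1 := by linarith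
  have h2 : 0 < q * u + 1 := by positivity
  calc _ ≤ (q - 1) ^ 2 / q ^ 2 := by
        rw [div_le_div_iff₀ (by positivity) (by positivity)]
        have h3 : x ^ 2 ≤ ((2 * u + 1) * (q - 1)) ^ 2 := pow_le_pow_left₀ hx (by linarith) 2
        have h4 : (2 * u + 1) ^ 2 ≤ (q - 2) * (u * (u + 1)) := by nlinarith
        have h5 : u * (u + 1) * q ^ 2 ≤ (q * u + 1) * (q - 2 + (q * u + 1)) := by nlinarith
        calc x ^ 2 * q ^ 2 ≤ (q - 1) ^ 2 * ((2 * u + 1) ^ 2 * q ^ 2) := by nlinarith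
          _ ≤ (q - 1) ^ 2 * ((q - 2) * (u * (u + 1)) * q ^ 2) := by gcongr
          _ = (q - 1) ^ 2 * ((q - 2) * (u * (u + 1) * q ^ 2)) := by ring
          _ ≤ (q - 1) ^ 2 * ((q - 2) * ((q * u + 1) * (q - 2 + (q * u + 1)))) := by gcongr
          _ = _ := by ring
    _ < _ := by
        rw [div_lt_div_iff₀ (by positivity) (by positivity)]
        have h3 : ((1 + D) * (q - 1)) ^ 2 ≤ (y * q) ^ 2 :=
          pow_le_pow_left₀ (by positivity) (by nlinarith) 2
        have h4 : 0 < (q - 1) ^ 2 * (1 + D) := by positivity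
        nlinarith

theorem sum_eq_of_clMul (j : G) (a b c a' b' c' : IrrCharacter G)
    (h : ∀ g, clMul j j⁻¹ g ≠ 0 → a.1 g + b.1 g - c.1 g = a'.1 g + b'.1 g - c'.1 g) :
    ‖a.1 j‖ ^ 2 / charDegree a.1 + ‖b.1 j‖ ^ 2 / charDegree b.1 - ‖c.1 j‖ ^ 2 / charDegree c.1 =
      ‖a'.1 j‖ ^ 2 / charDegree a'.1 + ‖b'.1 j‖ ^ 2 / charDegree b'.1 -
        ‖c'.1 j‖ ^ 2 / charDegree c'.1 := by
  have := Fintype.ofFinite G
  have h1 : ip (clMul j j⁻¹) (a.1 + b.1 - c.1) = ip (clMul j j⁻¹) (a'.1 + b'.1 - c'.1) := by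
    rw [ip_def, ip_def]
    refine congrArg _ (Finset.sum_congr rfl fun g _ => ?_)
    by_cases h0 : clMul j j⁻¹ g = 0
    · simp [h0]
    · simp only [Pi.sub_apply, Pi.add_apply, h g h0]
  have h2 : ∀ θ : IrrCharacter G, conj (θ.1 j) * conj (θ.1 j⁻¹) / θ.1 1 =
      ((‖θ.1 j‖ ^ 2 / charDegree θ.1 : ℝ) : ℂ) := fun θ => by
    rw [(irr_isCharacter θ).apply_inv, Complex.conj_conj, Complex.conj_mul', irr_apply_one]
    simp
  simp only [ip_sub_right, ip_add_right, clMul_eq_sum, ip_sum_irr_left, h2, ← mul_add,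
    ← mul_sub] at h1
  exact_mod_cast mul_left_cancel₀ (div_ne_zero (mul_ne_zero
    (Nat.cast_ne_zero.2 Subgroup.index_ne_zero_of_finite)
    (Nat.cast_ne_zero.2 Subgroup.index_ne_zero_of_finite)) card_cast_ne_zero) h1

theorem exists_principal (H : PrimeSyl p ι) (he : Nat.card (autN ι) = 2) (l : HatNe A)
    [Fintype A] :
    ∃ η₁ η₂ : IrrCharacter G, (∀ g, ¬ p ∣ orderOf g → 1 + η₁.1 g = η₂.1 g) ∧
      (∀ u ≠ 1, 1 + η₁.1 (ι u) - η₂.1 (ι u) = 2 - osum (autN ι) l.1 u) ∧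
      ∃ k : ℕ, ∑ u, η₂.1 (ι u) + k = charDegree η₂.1 := by
  classical
  obtain ⟨X, Y, δ, δ₀, T, h1⟩ := H.exists_pb
  obtain ⟨χ, hχ⟩ := Finset.card_eq_one.1 (show (X.erase (irrOne G)).card = 1 by
    rw [Finset.card_erase_of_mem h1, T.card_X, he])
  have h2 := (Finset.mem_erase.1 (hχ ▸ Finset.mem_singleton_self χ : χ ∈ X.erase (irrOne G))).2
  have h3 := T.reg l
  have h4 := T.degree_rel l
  simp only [← Finset.add_sum_erase _ _ h1, hχ, Finset.sum_singleton, T.sign_one h1,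
    irrOne_apply, charDegree_irrOne] at h3 h4
  have h5 := irr_degree_pos χ
  have h6 := irr_degree_pos (Y l)
  rcases T.sign χ h2 with h | h <;> rcases T.sign₀ with rfl | rfl <;> simp only [h] at h3 h4
  · omega
  · refine ⟨χ, Y l, fun g hg => ?_, fun u hu => ?_, ⟨2, ?_⟩⟩
    · have := h3 g hg; push_cast at this; linear_combination this
    · rw [T.valX_range h2 hu, T.valY_range l hu, h]; push_cast; ring
    · rw [T.sum_Y, he]; push_cast; ring
  · refine ⟨Y l, χ, fun g hg => ?_, fun u hu => ?_, ⟨p - 1, ?_⟩⟩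
    · have := h3 g hg; push_cast at this; linear_combination this
    · rw [T.valX_range h2 hu, T.valY_range l hu, h]; push_cast; ring
    · rw [T.sum_X h2, h, Nat.cast_sub hp.out.one_le]; push_cast; ring
  · omega

theorem eq_one_of_clMul (H : PrimeSyl p ι) (hp2 : Odd p) {ζ : IrrCharacter G} (hk : ker ζ.1 = ⊥)
    {j : G} (hj : j * j ∈ Subgroup.center G) (h0 : ζ.1 j ≠ 0) {u : A} {y : G}
    (hy : y ∈ Subgroup.center G) (hy' : ¬ p ∣ orderOf y) (h : clMul j j⁻¹ (ι u * y) ≠ 0) :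
    y = 1 := by
  obtain ⟨a, b, ha, hb, hab⟩ : ∃ a b, IsConj j a ∧ IsConj j⁻¹ b ∧ a * b = ι u * y := by
    by_contra! h'
    exact h (clMul_eq_zero h')
  have h1 : ∀ x, IsConj j x → x * x = j * j := fun x hx => by
    obtain ⟨c, rfl⟩ := isConj_iff.1 hx
    rw [show c * j * c⁻¹ * (c * j * c⁻¹) = c * (j * j) * c⁻¹ by group,
      Subgroup.mem_center_iff.1 hj c, mul_inv_cancel_right]
  replace hb : IsConj j b⁻¹ := by
    obtain ⟨c, rfl⟩ := isConj_iff.1 hb
    exact isConj_iff.2 ⟨c, by group⟩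
  have hyc := Subgroup.mem_center_iff.1 hy
  have h2 : a * ι u⁻¹ * a⁻¹ = ι u * (y * y) := by
    have h3 : a * (a * b)⁻¹ * a⁻¹ = a * b := by
      calc a * (a * b)⁻¹ * a⁻¹ = a * (b⁻¹ * (a * a)⁻¹) := by group
        _ = a * b := by rw [h1 a ha, ← h1 _ hb]; group
    rw [hab, mul_inv_rev, ← mul_assoc, Subgroup.mem_center_iff.1 (inv_mem hy) a] at h3
    rw [map_inv, ← mul_assoc, ← h3, hyc]
    group
  have h3 : y * y = 1 := by
    have h4 : ∀ v, ι v ^ p = 1 := fun v => by rw [← map_pow, ← H.card, pow_card_eq_one', map_one]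
    have h5 := congrArg (· ^ p) h2
    simp only [conj_pow, h4, mul_one, mul_inv_cancel] at h5
    rw [Commute.mul_pow (Subgroup.mem_center_iff.1 (mul_mem hy hy) _), h4, one_mul] at h5
    refine orderOf_eq_one_iff.1 (Nat.Coprime.eq_one_of_dvd ?_ (orderOf_dvd_of_pow_eq_one h5.symm))
    exact ((hp.out.coprime_iff_not_dvd).2 fun h => hy' (h.trans (by
      rw [← sq]; exact orderOf_pow_dvd 2))).symm
  rw [h3, mul_one] at h2
  obtain ⟨k, hk'⟩ := hp2
  have h4 : b⁻¹ = y⁻¹ * (ι (u ^ k) * a * (ι (u ^ k))⁻¹) := by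
    have h5 : a * (ι (u ^ k))⁻¹ * a⁻¹ = ι (u ^ k) := by
      rw [← map_inv, ← inv_pow, map_pow, ← conj_pow, h2, map_pow]
    have h6 : ι (u ^ k) * ι (u ^ k) * ι u = 1 := by
      rw [← map_mul, ← map_mul, ← pow_add, ← pow_succ, ← two_mul, ← hk', ← H.card,
        pow_card_eq_one', map_one]
    rw [mul_assoc (ι (u ^ k)), eq_mul_of_mul_inv_eq h5, ← mul_assoc (ι (u ^ k)),
      eq_inv_of_mul_eq_one_left h6, eq_inv_mul_of_mul_eq hab]
    group
  have h5 := (irr_isClassFunction ζ).of_isConj hb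
  rw [h4, CT.irr_apply_central_mul ζ (inv_mem hy), irr_isClassFunction ζ,
    ← (irr_isClassFunction ζ).of_isConj ha, eq_comm, mul_eq_right₀ h0,
    div_eq_one_iff_eq (irr_apply_one_ne_zero ζ), ← irr_mem_ker_iff, hk] at h5
  exact inv_eq_one.1 h5

theorem exists_linear (H : PrimeSyl p ι) (hp7 : 7 ≤ p) (ζ : IrrCharacter G) (hk : ker ζ.1 = ⊥)
    (hd : charDegree ζ.1 + 2 = p) (hnc : ¬ ι.range ≤ Subgroup.center G) :
    ∃ f : G →* ℂˣ, ∀ z ∈ Subgroup.center G, ζ.1 z = f z * ζ.1 1 := by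
  classical
  have := Fintype.ofFinite A
  obtain ⟨he, hV, l, χ₁, χ₂, h1, h2, h3, h4⟩ := exists_block H ζ hk hd hnc
  obtain ⟨η₁, η₂, h5, h6, k, h7⟩ := exists_principal H he l
  obtain ⟨j, hj, -⟩ := H.exists_inverting ((card_autN H.inj).symm.trans he)
  have hp2 : Odd p := hp.out.odd_of_ne_two (by omega)
  have hA : Odd (Nat.card A) := H.card ▸ hp2
  have hp0 : (p : ℂ) ≠ 0 := Nat.cast_ne_zero.2 hp.out.ne_zero
  have hj1 : ¬ p ∣ orderOf j := fun h => by
    obtain ⟨u, hu⟩ := @exists_ne A H.nontrivial 1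
    have h8 := Subgroup.mem_centralizer_iff.1 (H.mem_centralizer h
      (mem_normalizer_of_conj_mem (by rintro _ ⟨u, rfl⟩; exact ⟨_, (hj u).symm⟩))) _ ⟨u, rfl⟩
    have h9 : u⁻¹ = u := H.inj (by rw [← hj, ← h8, mul_inv_cancel_right])
    have := Nat.le_of_dvd two_pos (H.orderOf_eq hu ▸ orderOf_dvd_of_pow_eq_one
      (show u ^ 2 = 1 by rw [sq]; nth_rw 1 [← h9]; simp))
    omega
  have hj2 : j * j ∈ Subgroup.center G := hV (H.mem_cenReg.2 ⟨by
    rintro _ ⟨u, rfl⟩
    have := hj u⁻¹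
    rw [inv_inv, ← hj] at this
    nth_rw 1 [← this]
    simp [mul_assoc], IsPRegular.mul_of_commute hj1 hj1 rfl⟩)
  have hζ : ‖ζ.1 j‖ = 1 := by
    obtain ⟨w, h8, -, h9⟩ := (irr_isCharacter ζ).exists_fixed_bound ι hA hj
    have h10 := sum_osum_eq_zero H.card (autN ι) l.2
    rw [Fintype.sum_eq_add_sum_subtype_ne _ 1] at h8 h10
    rw [Finset.sum_congr rfl fun (u : {v : A // v ≠ 1}) _ => h1 u.1 u.2, Finset.sum_neg_distrib,
      neg_eq_of_add_eq_zero_left h10, osum_one, he, map_one, irr_apply_one, H.card, ← Nat.cast_add,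
      hd] at h8
    exact h9 (by exact_mod_cast (mul_eq_left₀ hp0).1 h8.symm)
  have hS := sum_eq_of_clMul j ζ χ₂ χ₁ (irrOne G) η₁ η₂ fun g hg => by
    by_cases h : p ∣ orderOf g
    · obtain ⟨t, u, hu, y, hy, h8⟩ := H.exists_conj_eq_mul h
      rw [← isClassFunction_clMul _ _ g t, h8] at hg
      rw [eq_one_of_clMul H hp2 hk hj2 (by rw [← norm_ne_zero_iff, hζ]; simp) (hV hy)
        (H.mem_cenReg.1 hy).2 hg, mul_one] at h8
      simp only [fun θ : IrrCharacter G => (irr_isClassFunction θ g t).symm.trans (congrArg θ.1 h8)]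
      rw [irrOne_apply, h6 u hu, h1 u hu, h2 u hu, h3 u hu]
      ring
    · rw [h4 g h, irrOne_apply, h5 g h, sub_self, sub_self]
  have hd1 : (charDegree χ₁.1 : ℝ) = charDegree ζ.1 + charDegree χ₂.1 := by
    have := h4 1 not_dvd_orderOf_one
    simp only [irr_apply_one] at this
    exact_mod_cast this.symm
  have hd2 : (charDegree η₂.1 : ℝ) = (1 : ℕ) + charDegree η₁.1 := by
    have := h5 1 not_dvd_orderOf_one
    simp only [irr_apply_one] at this
    exact_mod_cast this.symm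
  have hpos : ∀ θ : IrrCharacter G, (0 : ℝ) < charDegree θ.1 := fun θ =>
    Nat.cast_pos.2 (irr_degree_pos θ)
  rw [← h4 j hj1, ← h5 j hj1, hd1, hd2, charDegree_irrOne, irrOne_apply,
    frac_eq (hpos _) (hpos _), frac_eq (by simp) (hpos _)] at hS
  have hlin : charDegree χ₂.1 = 1 := by
    by_contra hne
    obtain ⟨w, h8, h9, -⟩ := (irr_isCharacter χ₂).exists_fixed_bound ι hA hj
    obtain ⟨w', h10, h11, -⟩ := (irr_isCharacter η₂).exists_fixed_bound ι hA hj
    rw [H.sum_eq h3, map_one, irr_apply_one, H.card] at h8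
    rw [h10, H.card] at h7
    have h12 : charDegree χ₂.1 + p = p * w + 1 := by
      exact_mod_cast (by linear_combination h8 : (charDegree χ₂.1 + p : ℂ) = p * w + 1)
    have h13 : (p * w' : ℝ) ≤ 1 + charDegree η₁.1 := by
      have : p * w' + k = charDegree η₂.1 := by exact_mod_cast h7
      rw [Nat.cast_one] at hd2
      rw [← hd2, ← this]
      simp
    have h14 : 2 ≤ w := by
      by_contra h
      obtain rfl | rfl : w = 0 ∨ w = 1 := by omega
      all_goals omega
    refine (frac_lt (q := p) (u := w - 1) (w := w') (B := charDegree ζ.1) (C := charDegree χ₂.1)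
      (by exact_mod_cast hp7)
      (le_sub_iff_add_le.2 (by exact_mod_cast h14)) (by exact_mod_cast hd)
      (by linarith [(by exact_mod_cast h12 : (charDegree χ₂.1 + p : ℝ) = p * w + 1)]) (hpos _)
      (norm_nonneg _) ((norm_sub_le _ _).trans ?_) ?_ h13).ne (by simpa using hS)
    · rw [norm_mul, norm_mul, hζ, Complex.norm_natCast, Complex.norm_natCast, one_mul,
        sub_add_cancel]
      gcongr
    · have := norm_add_le (charDegree η₁.1 - η₁.1 j : ℂ) (η₂.1 j)
      rw [← h5 j hj1, show (charDegree η₁.1 - η₁.1 j + (1 + η₁.1 j) : ℂ) =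
        (1 + charDegree η₁.1 : ℕ) by push_cast; ring, Complex.norm_natCast, h5 j hj1] at this
      push_cast at this
      linarith
  obtain ⟨f, rfl⟩ := (exists_linChar_eq_iff χ₂).2 hlin
  refine ⟨f, fun z hz => ?_⟩
  have h8 : ¬ p ∣ orderOf z := fun h => H.not_dvd_card_of_normal hnc
    (h.trans (Subgroup.orderOf_dvd_natCard _ hz))
  have h9 := (irr_mem_center_iff χ₁).1 (center_le_irr_center χ₁ hz)
  have h10 := (irr_mem_center_iff ζ).1 (center_le_irr_center ζ hz)
  have h11 := (irr_mem_center_iff _).1 (center_le_irr_center (linChar f) hz)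
  rw [← h4 z h8, hd1, ← h10, ← h11, ← sameRay_iff_norm_add] at h9
  have h12 := h9.norm_smul_eq
  rw [h10, h11, hlin, Nat.cast_one, one_smul] at h12
  rw [← h12, irr_apply_one, Complex.real_smul, mul_comm]
  rfl

theorem main (H : PrimeSyl p ι) (hp7 : 7 ≤ p) (ζ : IrrCharacter G) (hk : ker ζ.1 = ⊥)
    (hd : charDegree ζ.1 + 2 = p) (hnc : ¬ ι.range ≤ Subgroup.center G) :
    ∃ (a : ℕ) (F : Type) (_ : Field F) (_ : Fintype F), p = 2 ^ a + 1 ∧ Fintype.card F = 2 ^ a ∧
      Nonempty (G ≃* Matrix.SpecialLinearGroup (Fin 2) F × Subgroup.center G) := by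
  obtain ⟨f, hf⟩ := exists_linear H hp7 ζ hk hd hnc
  obtain ⟨he, hV, -⟩ := exists_block H ζ hk hd hnc
  have h1 : ∀ g, g ∈ ker (f⁻¹ • ζ).1 ↔ ζ.1 g = f g * ζ.1 1 := fun g => by
    rw [irr_mem_ker_iff, lin_smul_apply, lin_smul_apply, map_one, Units.val_one, one_mul,
      MonoidHom.inv_apply, Units.inv_mul_eq_iff_eq_mul]
  have h2 : ker (f⁻¹ • ζ).1 = Subgroup.center G := by
    refine le_antisymm (fun g hg => ?_) fun z hz => (h1 z).2 (hf z hz)
    have := monoidHom_norm_eq_one ((Units.coeHom ℂ).comp f) g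
    rw [MonoidHom.comp_apply, Units.coeHom_apply] at this
    rw [← irr_center_eq_of_faithful _ hk, irr_mem_center_iff, (h1 g).1 hg, norm_mul, this, one_mul,
      (irr_isCharacter ζ).norm_apply_one]
  obtain ⟨θ, hθ⟩ := (exists_inflate_eq_iff (Subgroup.center G) _).2 h2.ge
  let π := QuotientGroup.mk' (Subgroup.center G)
  have hπ : Function.Surjective π := QuotientGroup.mk'_surjective _
  have hk' : ker θ.1 = ⊥ := Subgroup.comap_injective hπ (by
    rw [← ker_inflate, hθ, h2, MonoidHom.comap_bot, QuotientGroup.ker_mk'])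
  have hd' : charDegree θ.1 + 2 = p := by
    rw [← hd, ← charDegree_lin_smul f⁻¹ ζ, ← hθ, inflate_val, ← charDegree_comp π]
    rfl
  have H' : PrimeSyl p (π.comp ι) := ⟨(injective_iff_map_eq_one _).2 fun u hu => by_contra fun h =>
    hnc (H.range_le_of_mem h ((QuotientGroup.eq_one_iff _).1 hu)), H.card, by
      rw [MonoidHom.range_comp]; exact H.syl.map_top_of_surjective hπ⟩
  have h3 : ∀ g u, π g * π (ι u) = π (ι u) * π g → g * ι u = ι u * g := fun g u h => by
    have h4 : (ι u)⁻¹ * (g * ι u * g⁻¹) ∈ Subgroup.center G := QuotientGroup.eq.1 (show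
      π (ι u) = π _ by rw [map_mul, map_mul, h, map_inv, mul_inv_cancel_right])
    have h5 : ι u ^ p = 1 := by rw [← map_pow, ← H.card, pow_card_eq_one', map_one]
    have h6 := congrArg (· ^ p) (mul_inv_cancel_left (ι u) (g * ι u * g⁻¹))
    simp only [conj_pow, h5, mul_one, mul_inv_cancel] at h6
    rw [Commute.mul_pow (Subgroup.mem_center_iff.1 h4 _), h5, one_mul] at h6
    rw [← mul_inv_eq_iff_eq_mul, eq_comm, ← inv_mul_eq_one, ← orderOf_eq_one_iff]
    exact Nat.Coprime.eq_one_of_dvd ((hp.out.coprime_iff_not_dvd).2 fun h =>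
      H.not_dvd_card_of_normal hnc (h.trans (Subgroup.orderOf_dvd_natCard _ h4))).symm
      (orderOf_dvd_of_pow_eq_one h6)
  have hnc' : ¬ (π.comp ι).range ≤ Subgroup.center _ := fun h => hnc (by
    rintro _ ⟨u, rfl⟩
    exact Subgroup.mem_center_iff.2 fun g => h3 g u (Subgroup.mem_center_iff.1 (h ⟨u, rfl⟩) _))
  have hC : Subgroup.centralizer ((π.comp ι).range : Set _) ≤ (π.comp ι).range := fun x hx => by
    obtain ⟨g, rfl⟩ := hπ x
    obtain ⟨u, y, hy, rfl⟩ := H.exists_eq_mul (w := g) (by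
      rintro _ ⟨u, rfl⟩
      exact (h3 g u (Subgroup.mem_centralizer_iff.1 hx _ ⟨u, rfl⟩).symm).symm)
    exact ⟨u, by rw [map_mul, show π y = 1 from (QuotientGroup.eq_one_iff _).2 (hV hy), mul_one]; rfl⟩
  have hO : pPrimeCore p (G ⧸ Subgroup.center G) = ⊥ := by
    obtain ⟨E, X, Z, Y, δ, δ₀, O⟩ := H'.exists_prinOne
    exact le_bot_iff.1 (hk' ▸ O.le_ker θ (O.all hC θ
      (Nat.not_dvd_of_pos_of_lt (irr_degree_pos θ) (by omega))))
  obtain ⟨χ, Z, O⟩ := H'.exists_pm2 (by omega) hC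
    ((card_autN H'.inj).symm.trans (exists_block H' θ hk' hd' hnc').1) hO (Or.inr hd')
  obtain ⟨a, F, _, _, h4, h5, ⟨e⟩⟩ := O.exists_SL2
  have h6 : (Subgroup.center G).IsComplement' (commutator G) := by
    refine Subgroup.isComplement'_of_disjoint_and_mul_eq_univ
      (Subgroup.disjoint_def.2 fun {z} hz hz' => ?_) ?_
    · have h6 : f z = 1 := Abelianization.commutator_subset_ker f hz'
      have := hf z hz
      rwa [h6, Units.val_one, one_mul, ← irr_mem_ker_iff, hk] at this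
    · have h6 := O.commutator_eq_top
      rw [← Subgroup.normal_mul, Set.eq_univ_iff_forall]
      intro g
      rw [commutator_def, ← Subgroup.map_top_of_surjective π hπ, ← Subgroup.map_commutator,
        ← commutator_def] at h6
      have : g ∈ ((commutator G).map π).comap π := h6.ge (Subgroup.mem_map_of_mem π trivial)
      rwa [Subgroup.comap_map_eq, QuotientGroup.ker_mk', sup_comm] at this
  let φ := (e.toMonoidHom.comp π).prod
    (h6.QuotientMulEquiv.toMonoidHom.comp (QuotientGroup.mk' (commutator G)))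
  refine ⟨a, F, _, _, h4, h5, ⟨MulEquiv.ofBijective φ ((Nat.bijective_iff_injective_and_card _).2
    ⟨(injective_iff_map_eq_one _).2 fun g hg => ?_, ?_⟩)⟩⟩
  · exact Subgroup.disjoint_def.1 h6.disjoint
      ((QuotientGroup.eq_one_iff _).1 ((map_eq_one_iff _ e.injective).1 (congrArg Prod.fst hg)))
      ((QuotientGroup.eq_one_iff _).1 ((map_eq_one_iff _ h6.QuotientMulEquiv.injective).1
        (congrArg Prod.snd hg)))
  · rw [Nat.card_prod, ← Nat.card_congr e.toEquiv, Subgroup.card_eq_card_quotient_mul_card_subgroup]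

end

/-- Let G be a finite group with centre Z and p > 5 a prime such that a Sylow p-subgroup of G has order p and is not normal. If G has a faithful irreducible character of degree p − 2, then p = 2^a + 1 for some a and G is isomorphic to the direct product of SL(2, 2^a) with Z. -/
theorem result {G : Type*} [Group G] [Finite G] (p : ℕ) [Fact p.Prime] (hp : 5 < p) (P : Sylow p G) (hP : Nat.card P = p) (hnn : ¬ (P : Subgroup G).Normal) (ζ : G → ℂ) (hζ : Cfsg.IsIrrCharacter G ζ) (hfaith : ∀ g : G, ζ g = ζ 1 → g = 1) (hdeg : Cfsg.charDegree ζ = p - 2) : ∃ (a : ℕ) (F : Type) (_ : Field F) (_ : Fintype F), p = 2 ^ a + 1 ∧ Fintype.card F = 2 ^ a ∧ Nonempty (G ≃* Matrix.SpecialLinearGroup (Fin 2) F × Subgroup.center G) := by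
  obtain ⟨A, _, _, ι, H, hι⟩ := exists_primeSyl (isSylowIn_sylow P) hP
  have hp' : p.Prime := Fact.out
  refine main H (by_contra fun h => ?_) ⟨ζ, hζ⟩ (hζ.isCharacter.ker_eq_bot_iff.2 hfaith)
    (by simp only; omega) fun h => hnn ⟨fun x hx g => ?_⟩
  · rw [show p = 6 by omega] at hp'
    norm_num at hp'
  · rwa [Subgroup.mem_center_iff.1 (h (hι ▸ hx)) g, mul_inv_cancel_right]

end Cfsg.Agent.S4705
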