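import Cfsg.Statements.S4776
import Cfsg.Agent.Lib.Char.RelGraph
import Cfsg.Agent.Lib.Char.DegGraph

set_option autoImplicit false
open Cfsg

namespace Cfsg.Agent.S4776

open CT

/-- Let N be a normal subgroup of the finite group G that is not perfect and is contained in the derived subgroup of G. Consider the common-divisor graph on the relative degree set cd(G|N) (the degrees of the irreducible complex characters of G whose kernel does not contain N; two distinct degrees adjacent when they have a common divisor greater than one). Then this graph has at most two connected components; and if a, b ∈ cd(G|N) lie in different components, then one of a, b is coprime to the index m of the derived subgroup of N in N while the other is divisible by every prime divisor of m. -/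
theorem result {G : Type*} [Group G] [Finite G] (N : Subgroup G) [N.Normal] (hN : ⁅N, N⁆ < N) (hNG : N ≤ commutator G) : Nat.card (Cfsg.commonDivisorGraph.induce (Cfsg.relCharDegrees N)).ConnectedComponent ≤ 2 ∧ ∀ (a b : ℕ) (ha : a ∈ Cfsg.relCharDegrees N) (hb : b ∈ Cfsg.relCharDegrees N), ¬ (Cfsg.commonDivisorGraph.induce (Cfsg.relCharDegrees N)).Reachable ⟨a, ha⟩ ⟨b, hb⟩ → (Nat.Coprime a (⁅N, N⁆.relIndex N) ∧ ∀ r : ℕ, r.Prime → r ∣ ⁅N, N⁆.relIndex N → r ∣ b) ∨ (Nat.Coprime b (⁅N, N⁆.relIndex N) ∧ ∀ r : ℕ, r.Prime → r ∣ ⁅N, N⁆.relIndex N → r ∣ a) := by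
  classical
  refine ⟨?_, fun a b ha hb h => coprime_or_of_not_reachable hNG h⟩
  obtain ⟨p, hp, hd⟩ := Nat.exists_prime_and_dvd (n := ⁅N, N⁆.relIndex N)
    (fun h => hN.not_ge (Subgroup.relIndex_eq_one.1 h))
  obtain ⟨v, hv⟩ := Set.nonempty_iff_ne_empty.2
    (mt (relCharDegrees_eq_empty_iff (N := N)).1 (bot_le.trans_lt hN).ne')
  let a : relCharDegrees N := if h : ∃ a : relCharDegrees N, p ∣ a.1 then h.choose else ⟨v, hv⟩
  let b : relCharDegrees N := if h : ∃ a : relCharDegrees N, ¬ p ∣ a.1 then h.choose else ⟨v, hv⟩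
  refine card_connectedComponent_le_two _ a b fun w => ?_
  by_cases h : p ∣ w.1
  · have h1 : ∃ a : relCharDegrees N, p ∣ a.1 := ⟨w, h⟩
    refine Or.inl (reachable_rel_of_not_coprime (not_coprime_of_dvd_of_dvd hp.ne_one h ?_))
    simp only [a, dif_pos h1]
    exact h1.choose_spec
  · have h1 : ∃ a : relCharDegrees N, ¬ p ∣ a.1 := ⟨w, h⟩
    refine Or.inr (reachable_rel_of_not_dvd hNG hp hp hd hd h ?_)
    simp only [b, dif_pos h1]
    exact h1.choose_spec

end Cfsg.Agent.S4776
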