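import Cfsg.Statements.S4779
import Cfsg.Agent.Lib.Char.RelGraph

set_option autoImplicit false
open Cfsg

namespace Cfsg.Agent.S4779

open CT

theorem adj_of_not_coprime {S : Set ℕ} {a b : S} (h : ¬ a.1.Coprime b.1) (ha : a.1 ≠ 0)
    (e : a ≠ b) : (commonDivisorGraph.induce S).Adj a b :=
  ⟨fun e' => e (Subtype.ext e'),
    lt_of_le_of_ne (Nat.gcd_pos_of_pos_left _ (Nat.pos_of_ne_zero ha)) (Ne.symm h)⟩

/-- Let N be a solvable normal subgroup of the finite group G contained in the derived subgroup of G, and consider the common-divisor graph on the relative degree set cd(G|N) (degrees of irreducible complex characters of G whose kernel does not contain N, two distinct degrees adjacent when not coprime). If this graph has two vertices that are not joined by any path, then there is a vertex a₀ such that any two distinct vertices in the component of a₀ are adjacent, and any two distinct vertices outside that component are adjacent or have a common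 neighbour (one component is complete, the other has diameter at most 2). -/
theorem result {G : Type*} [Group G] [Finite G] (N : Subgroup G) [N.Normal] [Group.IsSolvable N] (hNG : N ≤ commutator G) (hdisc : ¬ (Cfsg.commonDivisorGraph.induce (Cfsg.relCharDegrees N)).Preconnected) : ∃ a₀ : ↥(Cfsg.relCharDegrees N), (∀ b c : ↥(Cfsg.relCharDegrees N), (Cfsg.commonDivisorGraph.induce (Cfsg.relCharDegrees N)).Reachable a₀ b → (Cfsg.commonDivisorGraph.induce (Cfsg.relCharDegrees N)).Reachable a₀ c → b ≠ c → (Cfsg.commonDivisorGraph.induce (Cfsg.relCharDegrees N)).Adj b c) ∧ (∀ b c : ↥(Cfsg.relCharDegrees N), ¬ (Cfsg.commonDivisorGraph.induce (Cfsg.relCharDegrees N)).Reachable a₀ b → ¬ (Cfsg.commonDivisorGraph.induce (Cfsg.relCharDegrees N)).Reachable a₀ c → b ≠ c → (Cfsg.commonDivisorGraph.induce (Cfsg.relCharDegrees N)).Adj b c ∨ ∃ d : ↥(Cfsg.relCharDegrees N), (Cfsg.commonDivisorGraph.induce (Cfsg.relCharDegrees N)).Adj b d ∧ (Cfsg.commonDivisorGraph.induce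 (Cfsg.relCharDegrees N)).Adj d c) := by
  obtain ⟨a, b, hab, ha, hb⟩ : ∃ a b : relCharDegrees N,
      ¬ (commonDivisorGraph.induce (relCharDegrees N)).Reachable a b ∧
      a.1.Coprime (⁅N, N⁆.relIndex N) ∧ ∀ r : ℕ, r.Prime → r ∣ ⁅N, N⁆.relIndex N → r ∣ b.1 := by
    obtain ⟨a, h⟩ := not_forall.1 hdisc
    obtain ⟨b, h⟩ := not_forall.1 h
    rcases coprime_or_of_not_reachable hNG h with h1 | h1
    · exact ⟨a, b, h, h1⟩
    · exact ⟨b, a, fun h' => h h'.symm, h1⟩
  have hN : N ≠ ⊥ := fun h =>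
    Set.nonempty_iff_ne_empty.1 ⟨_, a.2⟩ (relCharDegrees_eq_empty_iff.2 h)
  have := (Subgroup.nontrivial_iff_ne_bot N).2 hN
  obtain ⟨p, hp, hd⟩ := Nat.exists_prime_and_dvd (n := ⁅N, N⁆.relIndex N) (by
    rw [relIndex_commutator_self, Ne, Subgroup.index_eq_one]
    exact (Group.IsSolvable.commutator_lt_top_of_nontrivial N).ne)
  have hpa : ¬ p ∣ a.1 := fun h => not_coprime_of_dvd_of_dvd hp.ne_one h hd ha
  have h1 : ∀ c : relCharDegrees N, ¬ (commonDivisorGraph.induce (relCharDegrees N)).Reachable b c →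
      c.1.Coprime (commutator N).index := fun c h => by
    rw [← relIndex_commutator_self]
    exact Nat.Coprime.symm (Nat.coprime_of_dvd fun r hr h1 h2 => h
      (reachable_rel_of_not_coprime (not_coprime_of_dvd_of_dvd hr.ne_one (hb r hr h1) h2)))
  refine ⟨b, fun c d hc hd' e => ?_, fun c d hc hd' e => ?_⟩
  · have h2 : ∀ c, (commonDivisorGraph.induce (relCharDegrees N)).Reachable b c → p ∣ c.1 :=
      fun c hc => by_contra fun h =>
        hab ((reachable_rel_of_not_dvd hNG hp hp hd hd hpa h).trans hc.symm)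
    exact adj_of_not_coprime (not_coprime_of_dvd_of_dvd hp.ne_one (h2 c hc) (h2 d hd'))
      (ne_zero_of_mem_relCharDegrees c.2) e
  by_cases hcd : c.1.Coprime d.1
  swap
  · exact Or.inl (adj_of_not_coprime hcd (ne_zero_of_mem_relCharDegrees c.2) e)
  right
  suffices h : ∃ x : relCharDegrees N, ¬ c.1.Coprime x.1 ∧ ¬ d.1.Coprime x.1 by
    obtain ⟨x, h2, h3⟩ := h
    exact ⟨x, adj_of_not_coprime h2 (ne_zero_of_mem_relCharDegrees c.2)
      (fun e => h3 (e ▸ hcd.symm)), (adj_of_not_coprime h3 (ne_zero_of_mem_relCharDegrees d.2)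
      (fun e => h2 (e ▸ hcd))).symm⟩
  have hc1 := h1 c hc
  have hd1 := h1 d hd'
  obtain ⟨c, hc0⟩ := c
  obtain ⟨d, hd0⟩ := d
  obtain ⟨χ, hχ, rfl⟩ := mem_relCharDegrees.1 hc0
  obtain ⟨χ', hχ', rfl⟩ := mem_relCharDegrees.1 hd0
  obtain ⟨θ, hθ⟩ := exists_irr_liesUnder N χ
  obtain ⟨θ', hθ'⟩ := exists_irr_liesUnder N χ'
  have hθ1 := mt hθ.le_ker_iff_eq_irrOne.2 hχ
  have hθ1' := mt hθ'.le_ker_iff_eq_irrOne.2 hχ'
  by_cases h2 : charDegree θ'.1 = 1
  · obtain ⟨f, rfl⟩ := (exists_linChar_eq_iff θ').2 h2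
    obtain ⟨ψ, h3, h4⟩ := exists_common_of_coprime hNG (mt linChar_eq_irrOne_iff.2 hθ1') hθ1 hθ hθ'
      hcd hc1 hd1
    exact ⟨⟨_, degree_mem_relCharDegrees h3⟩, h4⟩
  by_cases h3 : charDegree θ.1 = 1
  · obtain ⟨f, rfl⟩ := (exists_linChar_eq_iff θ).2 h3
    obtain ⟨ψ, h3, h4⟩ := exists_common_of_coprime hNG (mt linChar_eq_irrOne_iff.2 hθ1) hθ1' hθ' hθ
      hcd.symm hd1 hc1
    exact ⟨⟨_, degree_mem_relCharDegrees h3⟩, h4.symm⟩
  exfalso
  obtain ⟨r, e, hr, he, he', h4⟩ := exists_prime_forall_mul_degree (G := N) fun h =>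
    h2 (commutator_eq_bot_iff_forall_degree_one.1 h θ')
  have key : ∀ {χ : IrrCharacter G} (hχ : charDegree χ.1 ∈ relCharDegrees N) {θ : IrrCharacter N},
      LiesOver N χ.1 θ.1 → charDegree θ.1 ≠ 1 →
      ¬ (commonDivisorGraph.induce (relCharDegrees N)).Reachable b ⟨_, hχ⟩ → r ∣ charDegree χ.1 := by
    intro χ hχ θ hθ h5 h6
    by_contra h7
    obtain ⟨φ, hφ⟩ := h4 θ ((h1 _ h6).coprime_dvd_left hθ.degree_dvd) fun h => h7 (h.trans hθ.degree_dvd)
    obtain ⟨ψ, hψ⟩ := exists_irr_liesOver (G := G) φ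
    have h8 : ¬ N ≤ ker ψ.1 := fun h => by
      rw [hψ.le_ker_iff_eq_irrOne.1 h, charDegree_irrOne] at hφ
      exact he (Nat.eq_one_of_mul_eq_one_right hφ.symm)
    have h9 := hψ.degree_dvd
    rw [hφ] at h9
    refine not_coprime_of_dvd_of_dvd he (Dvd.dvd.trans (dvd_mul_right _ _) h9) he'
      (h1 ⟨_, degree_mem_relCharDegrees h8⟩ fun h => h6 (h.trans (reachable_rel_of_not_coprime
        (not_coprime_of_dvd_of_dvd h5 (Dvd.dvd.trans (dvd_mul_left _ _) h9) hθ.degree_dvd))))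
  exact not_coprime_of_dvd_of_dvd hr.ne_one (key hc0 hθ h3 hc) (key hd0 hθ' h2 hd') hcd

end Cfsg.Agent.S4779
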