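import Cfsg.Statements.S4783
import Cfsg.Agent.Lib.Char.RelDeg2

set_option autoImplicit false
open Cfsg

namespace Cfsg.Agent.S4783

open CT MulAction
open scoped commutatorElement
universe u
variable {G : Type*} [Group G] [Finite G]

theorem eq_of_four {S : Set ℕ} (hS : S.Finite) (h : S.ncard ≤ 4) {a b c d x : ℕ} (ha : a ∈ S)
    (hb : b ∈ S) (hc : c ∈ S) (hd : d ∈ S) (hab : a ≠ b) (hac : a ≠ c) (had : a ≠ d) (hbc : b ≠ c)
    (hbd : b ≠ d) (hcd : c ≠ d) (hx : x ∈ S) : x = a ∨ x = b ∨ x = c ∨ x = d := by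
  have h1 : ({a, b, c, d} : Set ℕ) = S := Set.eq_of_subset_of_ncard_le
    (by simp [Set.insert_subset_iff, *]) (by
      rwa [Set.ncard_insert_of_notMem (by simp [*]), Set.ncard_insert_of_notMem (by simp [*]),
        Set.ncard_pair hcd]) hS
  rw [← h1] at hx
  simpa using hx

omit [Finite G] in
theorem ne_one_of_not_le {D : Subgroup G} (hD : D ≤ commutator G) {χ : IrrCharacter G}
    (h : ¬ D ≤ ker χ.1) : charDegree χ.1 ≠ 1 := fun e =>
  h (hD.trans (commutator_le_ker_of_degree_one (irr_isCharacter χ) e))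

theorem chain {r : ℕ} [Fact r.Prime] (h1 : IsPGroup r (der (commutator G) 1))
    (h2 : der (commutator G) 3 ≠ ⊥) : ∃ x y z : IrrCharacter G, charDegree x.1 ≠ 1 ∧
      charDegree y.1 ≠ 1 ∧ charDegree z.1 ≠ 1 ∧
      (charDegree x.1).factorization r < (charDegree y.1).factorization r ∧
      (charDegree y.1).factorization r < (charDegree z.1).factorization r ∧
      ∀ ψ : IrrCharacter G, ¬ der (commutator G) 2 ≤ ker ψ.1 →
        (charDegree x.1).factorization r < (charDegree ψ.1).factorization r := by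
  have h3 : ∀ k ≤ 3, der (commutator G) k ≠ ⊥ := fun k hk e =>
    h2 (eq_bot_iff.2 ((der_anti _ hk).trans e.le))
  obtain ⟨x, hx, hx'⟩ := exists_factorization_lt_of_isPGroup h1 (h3 1 (by norm_num))
  obtain ⟨y, hy, hy'⟩ := exists_factorization_lt_of_isPGroup (h1.to_le (der_succ_le _ 1))
    (h3 2 (by norm_num))
  obtain ⟨z, hz⟩ := exists_irr_not_le_ker h2
  exact ⟨x, y, z, ne_one_of_not_le (der_le _ _) hx, ne_one_of_not_le (der_le _ _) hy,
    ne_one_of_not_le (der_le _ _) hz, hx' y hy, hy' z hz, hx'⟩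

theorem der_le_of_forall [Group.IsSolvable G] {Q : Subgroup G} [Q.Normal] {f : ℕ}
    (h : ∀ χ : IrrCharacter G, Q ≤ ker χ.1 → charDegree χ.1 ≠ 1 → charDegree χ.1 = f) :
    der (commutator G) 1 ≤ Q := by
  refine der_le_of_map_mk' ?_
  rw [map_mk'_commutator]
  refine commutator_eq_bot_of_forall_degree_eq (c := f) fun ψ hψ => ?_
  rw [← charDegree_inflate]
  exact h _ (le_ker_inflate Q ψ) (by rw [charDegree_inflate]; exact ne_one_of_not_le le_rfl hψ)

theorem all_dvd [Group.IsSolvable G] (h : (charDegrees G).ncard ≤ 4) {p : ℕ} [hp : Fact p.Prime]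
    (hd : ∀ χ : IrrCharacter G, charDegree χ.1 ≠ 1 → p ∣ charDegree χ.1) {ψ : IrrCharacter G}
    (h1 : charDegree ψ.1 ≠ 1) {k : ℕ} (hk : charDegree ψ.1 = p ^ k) :
    der (commutator G) 3 = ⊥ := by
  have h2 := hasNormalPComplement_of_degrees hd
  set M := pPrimeCore p G with hM
  have hpM : ¬ p ∣ Nat.card M := GT.not_dvd_card_pPrimeCore p G
  obtain ⟨j, hj⟩ := GT.hasNormalPComplement_iff_index_pPrimeCore.1 h2
  have hA : ∀ d ∈ charDegrees (G ⧸ ⁅M, M⁆), ∃ i, d = p ^ i := fun d hd => by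
    obtain ⟨χ, h3, rfl⟩ := mem_charDegrees_quotient.1 hd
    obtain ⟨i, -, hi⟩ := (Nat.dvd_prime_pow hp.out).1
      (hj ▸ irr_degree_dvd_index_of_commutator_le_ker χ M h3)
    exact ⟨i, hi⟩
  have hB : ∀ d ∈ relCharDegrees ⁅M, M⁆, ∀ i, d ≠ p ^ i := fun d hd i hi => by
    obtain ⟨χ, h3, rfl⟩ := mem_relCharDegrees.1 hd
    obtain ⟨θ, hθ⟩ := exists_irr_liesUnder M χ
    obtain ⟨l, -, hl⟩ := (Nat.dvd_prime_pow hp.out).1 (hi ▸ hθ.degree_dvd)
    refine h3 (hθ.commutator_le_ker_iff.2 ?_)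
    rcases l with _ | l
    · exact hl
    · exact absurd ((Dvd.intro_left _ (pow_succ p l ▸ hl.symm)).trans (irr_degree_dvd_card θ)) hpM
  have h3 : (charDegrees (G ⧸ ⁅M, M⁆)).ncard + (relCharDegrees ⁅M, M⁆).ncard ≤ 4 := by
    rw [← Set.ncard_union_eq (Set.disjoint_left.2 fun d h1 h2 => (hA d h1).elim (hB d h2))
      finite_charDegrees (finite_relCharDegrees _)]
    exact (Set.ncard_le_ncard (Set.union_subset (charDegrees_quotient_subset _)
      (relCharDegrees_subset _)) finite_charDegrees).trans h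
  have h4 : 2 ≤ (charDegrees (G ⧸ ⁅M, M⁆)).ncard := by
    rw [← Set.ncard_pair h1]
    refine Set.ncard_le_ncard (Set.pair_subset (mem_charDegrees_quotient.2 ⟨ψ, ?_, rfl⟩)
      one_mem_charDegrees) finite_charDegrees
    by_contra h4
    exact hB _ (degree_mem_relCharDegrees h4) k hk
  have := (inferInstance : M.Normal).map _ (QuotientGroup.mk'_surjective ⁅M, M⁆)
  have h5 : IsPGroup p ((G ⧸ ⁅M, M⁆) ⧸ M.map (QuotientGroup.mk' ⁅M, M⁆)) := IsPGroup.of_card (n := j) (by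
    rw [← Subgroup.index, GT.index_map_mk', sup_eq_left.2 (Subgroup.commutator_le_left M M), hj])
  have := h5.isNilpotent
  have h6 := derivedSeries_le_of_quotient ((isMGroup_of_comm_normal_nilpotent
    (M.map (QuotientGroup.mk' ⁅M, M⁆)) (GT.isMulCommutative_iff_forall.1
      (isMulCommutative_map_mk' le_rfl))).derivedSeries_eq_bot le_rfl)
  have h7 := der_eq_bot_of_ncard_le (N := ⁅M, M⁆) (by omega) le_rfl
  rw [der_commutator, derivedSeries_eq_der, eq_bot_iff, ← h7]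
  refine (der_anti _ h3).trans ?_
  rw [← der_der, ← derivedSeries_eq_der]
  exact der_mono h6 _

theorem pcase [Group.IsSolvable G] (h : (charDegrees G).ncard ≤ 4) {r : ℕ} [hr : Fact r.Prime]
    (hlt : ∀ χ : IrrCharacter G, pCore r G ≤ ker χ.1 → charDegree χ.1 ≠ 1 →
      ∃ ψ : IrrCharacter G, charDegree χ.1 < charDegree ψ.1) {K : Subgroup G} [K.Normal]
    (hK : IsMaxNonab K) (hQK : pCore r G ≤ K) {p : ℕ} [hp : Fact p.Prime]
    (hG : IsPGroup p (G ⧸ K)) : der (commutator G) 3 = ⊥ := by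
  obtain ⟨ψ, hψ, hψ1⟩ := hK.exists_irr
  obtain ⟨k, hk⟩ : ∃ k, charDegree ψ.1 = p ^ k := by
    obtain ⟨φ, rfl⟩ := (exists_inflate_eq_iff K ψ).2 hψ.ge
    exact charDegree_inflate K φ ▸ exists_degree_eq_pow_of_isPGroup hG φ
  by_cases hd : ∀ χ : IrrCharacter G, charDegree χ.1 ≠ 1 → p ∣ charDegree χ.1
  · exact all_dvd h hd hψ1 hk
  push Not at hd
  obtain ⟨χ, h1, h2⟩ := hd
  have hmul : ∀ χ : IrrCharacter G, ¬ p ∣ charDegree χ.1 → ∃ φ : IrrCharacter G,
      charDegree φ.1 = charDegree ψ.1 * charDegree χ.1 ∧ ker ψ.1 ⊓ ker χ.1 ≤ ker φ.1 :=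
    fun χ h2 => ⟨⟨_, gallagher_isIrr' (θ := ⟨_, isIrr_res_of_isPGroup_quotient hp.out hG h2⟩)
      (irr_isCharacter χ) rfl hψ.ge⟩, (irr_isCharacter ψ).charDegree_mul (irr_isCharacter χ),
      fun x hx => by
        rw [irr_mem_ker_iff]
        exact congrArg₂ (· * ·) (ker_apply_eq hx.1) (ker_apply_eq hx.2)⟩
  obtain ⟨φ, hφ, hφ'⟩ := hmul χ h2
  have h3 : p ∣ charDegree ψ.1 := hk ▸ dvd_pow_self p (by rintro rfl; exact hψ1 hk)
  have h4 := irr_degree_pos ψ
  have h5 := irr_degree_pos χ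
  have h6 : charDegree ψ.1 < charDegree φ.1 := hφ ▸ lt_mul_of_one_lt_right h4 (by omega)
  have h7 : charDegree χ.1 < charDegree φ.1 := hφ ▸ lt_mul_of_one_lt_left h5 (by omega)
  have hall : ∀ ξ : IrrCharacter G, charDegree ξ.1 = 1 ∨ charDegree ξ.1 = charDegree ψ.1 ∨
      charDegree ξ.1 = charDegree χ.1 ∨ charDegree ξ.1 = charDegree φ.1 := fun ξ =>
    eq_of_four finite_charDegrees h one_mem_charDegrees (mem_charDegrees ψ) (mem_charDegrees χ)
      (mem_charDegrees φ) hψ1.symm h1.symm (by omega) (fun e => h2 (e ▸ h3)) h6.ne h7.ne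
      (mem_charDegrees ξ)
  have h8 : ∀ ξ : IrrCharacter G, pCore r G ≤ ker ξ.1 → charDegree ξ.1 ≠ charDegree φ.1 :=
    fun ξ h8 h9 => by
      obtain ⟨ζ, hζ⟩ := hlt ξ h8 (by omega)
      have := hall ζ
      omega
  have h9 := der_le_of_forall (Q := pCore r G) (f := charDegree ψ.1) fun ξ e1 e2 => by
    rcases hall ξ with e | e | e | e
    · exact absurd e e2
    · exact e
    · obtain ⟨ζ, e3, e4⟩ := hmul ξ (e ▸ h2)
      exact absurd (by rw [e3, hφ, e]) (h8 ζ ((le_inf (hQK.trans hψ.ge) e1).trans e4))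
    · exact absurd e (h8 ξ e1)
  by_contra h10
  obtain ⟨x, y, z, hx, hy, hz, e1, e2, -⟩ := chain ((GT.isPGroup_pCore r G).to_le h9) h10
  have e3 : (charDegree φ.1).factorization r =
      (charDegree ψ.1).factorization r + (charDegree χ.1).factorization r := by
    rw [hφ, Nat.factorization_mul h4.ne' h5.ne']; rfl
  have e4 : (charDegree ψ.1).factorization r = 0 ∨ (charDegree χ.1).factorization r = 0 := by
    by_cases e : r = p
    · exact Or.inr (Nat.factorization_eq_zero_of_not_dvd (e ▸ h2))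
    · exact Or.inl (Nat.factorization_eq_zero_of_not_dvd fun h => e
        ((Nat.prime_dvd_prime_iff_eq hr.out hp.out).1 (hr.out.dvd_of_dvd_pow (hk ▸ h))))
  rcases (hall x).resolve_left hx with a | a | a <;> rcases (hall y).resolve_left hy with b | b | b <;>
    rcases (hall z).resolve_left hz with c | c | c <;> rw [a, b] at e1 <;> rw [b, c] at e2 <;> omega

theorem dvd_of_liesOver {q : ℕ} (hq : q.Prime) {Q S : Subgroup G} [Q.Normal] [S.Normal]
    (hQS : Q ≤ S) (hS : ⁅S, S⁆ ≤ Q) (h1 : ¬ q ∣ S.index) {θ : IrrCharacter Q}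
    {ψ ψ' : IrrCharacter G} (h2 : LiesOver Q ψ.1 θ.1) (h3 : LiesOver Q ψ'.1 θ.1)
    (h4 : q ∣ charDegree ψ'.1) : q ∣ charDegree ψ.1 := by
  obtain ⟨η, h5, h6⟩ := h2.exists_between hQS (irr_isClassFunction ψ)
  obtain ⟨η', h7, h8⟩ := h3.exists_between hQS (irr_isClassFunction ψ')
  rw [h5.prime_dvd_degree_iff hq h1, ← degree_eq_of_liesOver_of_commutator_le
    (commutator_le_subgroupOf hS) ((liesOver_irrOf_iff hQS).2 h6) ((liesOver_irrOf_iff hQS).2 h8)]
  exact (h7.prime_dvd_degree_iff hq h1).1 h4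

theorem exists_not_dvd {q : ℕ} [hq : Fact q.Prime] {Q L : Subgroup G} [Q.Normal] [L.Normal]
    (hQL : Q ≤ L) {φ : IrrCharacter L} (hφ : detPow φ.1 (Nat.card Q) ≠ irrOne L)
    {χ : IrrCharacter G} (h1 : LiesOver L χ.1 φ.1) (h2 : ¬ q ∣ charDegree χ.1) :
    ∃ ξ : IrrCharacter G, Q ≤ ker ξ.1 ∧ ¬ L ≤ ker ξ.1 ∧ ¬ q ∣ charDegree ξ.1 := by
  obtain ⟨P⟩ : Nonempty (Sylow q G) := inferInstance
  have hLW : L ≤ L ⊔ P := le_sup_left
  obtain ⟨η, h3, h4⟩ := exists_liesUnder_not_dvd (L ⊔ P) (irr_isCharacter χ) h2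
  obtain ⟨φ', h5⟩ := exists_irr_liesUnderLe hLW η
  obtain ⟨m, h6, h7⟩ := h5.exists_degree_eq_mul
  obtain ⟨j, hj⟩ := P.isPGroup'.exists_relIndex_eq_pow L
  rw [Subgroup.relIndex_sup_left, hj] at h6
  have h8 : m = 1 := (Nat.Coprime.pow_right j ((hq.out.coprime_iff_not_dvd.2 fun h =>
    h4 (h7 ▸ h.mul_right _)).symm)).eq_one_of_dvd h6
  have h9 := h5.resLe_eq_of_degree_le (irr_isCharacter η) (by rw [h7, h8, one_mul])
  obtain ⟨g, rfl⟩ := h1.mem_orbit (h3.trans_le hLW (irr_isCharacter χ) (irr_isCharacter φ') h5)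
  obtain ⟨ξ, h10, h11⟩ := exists_liesOver_not_dvd (d := q)
    (irr_isCharacter (detPow η.1 (Nat.card Q))) (by
      rw [charDegree_detPow, mul_one]
      exact fun h => P.not_dvd_index (h.trans (Subgroup.index_dvd_of_le le_sup_right)))
  refine ⟨ξ, (h10.le_ker_iff (hQL.trans hLW)).2 (le_ker_detPow_card _
    (by rw [GT.card_subgroupOf_of_le (hQL.trans hLW)])), fun h => hφ ?_, h11⟩
  rw [h10.le_ker_iff hLW] at h
  rw [← ker_irr_eq_top_iff, eq_top_iff]
  intro x _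
  have h12 := mem_ker_detPow.1 (h (x := Subgroup.inclusion hLW (MulAut.conjNormal g x))
    (MulAut.conjNormal g x).2)
  rw [← congrFun ((irr_isCharacter η).detChar_comp (Subgroup.inclusion hLW)) _, ← resLe_eq_comp, h9,
    conjSmul_val] at h12
  rw [mem_ker_detPow, ← h12]
  have h13 := (irr_isCharacter φ).detChar_comp (MulAut.conjNormal g⁻¹ : MulAut L).toMonoidHom
  rw [show conjFun g φ.1 = fun h => φ.1 ((MulAut.conjNormal g⁻¹ : MulAut L).toMonoidHom h)
    from rfl, h13]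
  simp

theorem fcase [Group.IsSolvable G] (h : (charDegrees G).ncard ≤ 4) {r : ℕ} [hr : Fact r.Prime]
    (hO : pPrimeCore r G = ⊥) (hQ : ¬ commutator G ≤ pCore r G)
    (hD : der (commutator G) 2 ≤ pCore r G)
    (hlt : ∀ χ : IrrCharacter G, pCore r G ≤ ker χ.1 → charDegree χ.1 ≠ 1 →
      ∃ ψ : IrrCharacter G, charDegree χ.1 < charDegree ψ.1) {K N : Subgroup G} [K.Normal]
    [N.Normal] (hK : GT.IsChief K N) (hQK : pCore r G ≤ K) (hCN : commutator G ≤ N)
    (hCK : ¬ commutator G ≤ K) (hN : N ≤ commutator G ⊔ K) (hF : FrobSec K N) :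
    der (commutator G) 3 = ⊥ := by
  set Q := pCore r G with hQdef
  set C := commutator G with hC
  have hQN : Q ≤ N := hQK.trans hK.le
  have hQp : IsPGroup r Q := GT.isPGroup_pCore r G
  obtain ⟨q, j, hq, hj0, hj⟩ := hK.exists_relIndex_eq_pow
  have := Fact.mk hq
  have hqf : ¬ q ∣ N.index := (hq.coprime_iff_not_dvd).1
    (hF.coprime.coprime_dvd_left (hj ▸ dvd_pow_self q hj0.ne'))
  obtain ⟨χf, e1, e2, hχf⟩ := hF.exists_irr hK.lt.ne
  have hf1 : N.index ≠ 1 := fun e => e2 (hN.trans (sup_le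
    ((irr_degree_eq_one_iff_commutator_le_ker χf).1 (hχf.trans e)) e1))
  have hf0 := GT.index_pos N
  have hder : der N 3 = ⊥ → der C 3 = ⊥ := fun e => eq_bot_iff.2 ((der_mono hCN 3).trans e.le)
  have hNC : ⁅N, N⁆ ≤ C := Subgroup.commutator_mono le_top le_top
  by_cases h1 : ∀ χ : IrrCharacter G, ¬ ⁅N, N⁆ ≤ ker χ.1 → charDegree χ.1 ≠ N.index
  · refine hder (der_two_eq_bot_of_ncard_le_two (N := ⁅N, N⁆) ?_)
    have h2 : relCharDegrees ⁅N, N⁆ ⊆ charDegrees G \ {1, N.index} := fun d hd => by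
      obtain ⟨χ, h3, rfl⟩ := mem_relCharDegrees.1 hd
      exact ⟨mem_charDegrees χ, fun e => e.elim (ne_one_of_not_le hNC h3) (h1 χ h3)⟩
    have h3 := Set.ncard_le_ncard h2 finite_charDegrees.sdiff
    rw [Set.ncard_sdiff (Set.pair_subset one_mem_charDegrees (hχf ▸ mem_charDegrees χf)),
      Set.ncard_pair hf1.symm] at h3
    omega
  push Not at h1
  obtain ⟨χ₀, h1, h2⟩ := h1
  obtain ⟨θ₀, hθ₀⟩ := exists_irr_liesUnder N χ₀
  have ht1 : charDegree θ₀.1 ≠ 1 := mt hθ₀.commutator_le_ker_iff.2 h1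
  have htf : charDegree θ₀.1 ∣ N.index := h2 ▸ hθ₀.degree_dvd
  have ht0 := irr_degree_pos θ₀
  set t := charDegree θ₀.1 with ht
  have key : ∀ ψ : IrrCharacter N, ¬ q ∣ charDegree ψ.1 → ∃ χ : IrrCharacter G,
      charDegree χ.1 = N.index * charDegree ψ.1 ∧ (Q.subgroupOf N ≤ ker ψ.1 → Q ≤ ker χ.1) := by
    intro ψ hψ
    rcases hF.exists_irr_or_dvd ψ with ⟨g, χ, h3, h4, h5⟩ | ⟨-, h3⟩
    · refine ⟨χ, h5, fun h6 => h4 ▸ le_ker_ind_of_normal hQN fun x hx => ?_⟩
      rw [irr_mem_ker_iff, lin_smul_apply, lin_smul_apply, ker_apply_eq (h6 hx),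
        (MonoidHom.mem_ker.1 (h3 (hQK hx)) : g x = 1), map_one]
    · exact absurd (hq.dvd_of_dvd_pow ((hj ▸ dvd_pow_self q hj0.ne').trans h3)) hψ
  have hqt : ¬ q ∣ t := fun e => hqf (e.trans htf)
  obtain ⟨χt, hχt, -⟩ := key θ₀ hqt
  by_cases h3 : ∀ ψ : IrrCharacter N, ¬ q ∣ charDegree ψ.1
  · refine hder ?_
    rw [← map_subtype_derivedSeries, derivedSeries_eq_bot_of_ncard_le le_rfl, Subgroup.map_bot]
    have h4 := Set.ncard_le_ncard_of_injOn (s := charDegrees N) (t := charDegrees G \ {1})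
      (N.index * ·) (by
        rintro _ ⟨ψ, rfl⟩
        obtain ⟨χ, h4, -⟩ := key ψ (h3 ψ)
        exact ⟨⟨χ, h4⟩, fun e => hf1 (Nat.eq_one_of_mul_eq_one_right e)⟩)
      (fun a _ b _ e => Nat.eq_of_mul_eq_mul_left hf0 e) finite_charDegrees.sdiff
    rw [Set.ncard_sdiff_singleton_of_mem one_mem_charDegrees] at h4
    omega
  push Not at h3
  obtain ⟨ψ₀, h3⟩ := h3
  obtain ⟨χc, hχc⟩ := exists_irr_liesOver ψ₀
  have hqc : q ∣ charDegree χc.1 := h3.trans hχc.degree_dvd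
  set c := charDegree χc.1 with hc
  have hqft : ¬ q ∣ N.index * t := fun e => (hq.dvd_mul.1 e).elim hqf hqt
  have hft : N.index < N.index * t := lt_mul_of_one_lt_right hf0 (by omega)
  have hq1 : ¬ q ∣ 1 := fun e => hq.ne_one (Nat.dvd_one.1 e)
  have hall : ∀ ξ : IrrCharacter G, charDegree ξ.1 = 1 ∨ charDegree ξ.1 = N.index ∨
      charDegree ξ.1 = N.index * t ∨ charDegree ξ.1 = c := fun ξ =>
    eq_of_four finite_charDegrees h one_mem_charDegrees ⟨χf, hχf⟩ ⟨χt, hχt⟩ (mem_charDegrees χc)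
      hf1.symm (by omega) (fun e => hq1 (e ▸ hqc)) hft.ne (fun e => hqf (e ▸ hqc))
      (fun e => hqft (e ▸ hqc)) (mem_charDegrees ξ)
  have hc' : ∀ ξ : IrrCharacter G, q ∣ charDegree ξ.1 ↔ charDegree ξ.1 = c := fun ξ =>
    ⟨fun e => by rcases hall ξ with a | a | a | a <;> simp_all, fun e => e ▸ hqc⟩
  have hNt : ∀ ψ : IrrCharacter N, ¬ q ∣ charDegree ψ.1 → charDegree ψ.1 ≠ 1 →
      charDegree ψ.1 = t := fun ψ e1 e2 => by
    obtain ⟨χ, e3, -⟩ := key ψ e1
    rcases hall χ with a | a | a | a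
    · exact absurd (Nat.eq_one_of_mul_eq_one_right (e3.symm.trans a)) hf1
    · exact absurd ((Nat.mul_eq_left hf0.ne').1 (e3.symm.trans a)) e2
    · exact Nat.eq_of_mul_eq_mul_left hf0 (e3.symm.trans a)
    · exact absurd (hq.dvd_mul.1 (e3 ▸ a ▸ hqc)) (not_or.2 ⟨hqf, e1⟩)
  have hC1 : der C 1 ≤ ⁅N, N⁆ := der_mono hCN 1
  have hDN : der C 2 ≤ N := (der_le _ _).trans hCN
  have hlin : ∀ {M : Subgroup G}, M ≤ der C 1 ⊔ Q → ∀ ψ : IrrCharacter N,
      Q.subgroupOf N ≤ ker ψ.1 ∨ M ≤ der C 1 → ¬ M.subgroupOf N ≤ ker ψ.1 →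
      charDegree ψ.1 ≠ 1 := by
    intro M hM ψ e1 e2 e3
    obtain ⟨χ, hχ⟩ := exists_irr_liesOver ψ
    have e4 := hC1.trans (hχ.commutator_le_ker_iff.2 e3)
    refine e2 fun x hx => ?_
    rcases e1 with e1 | e1
    · exact (hχ.le_ker_iff (sup_le ((der_le _ _).trans hCN) hQN)).1
        (sup_le e4 ((hχ.le_ker_iff hQN).2 e1)) (hM hx)
    · exact (hχ.le_ker_iff ((der_le _ _).trans hCN)).1 e4 (e1 hx)
  have fin : (∀ χ : IrrCharacter G, ¬ der C 2 ≤ ker χ.1 → charDegree χ.1 ≠ c) → der C 3 = ⊥ :=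
    fun e => commutator_eq_bot_of_forall_degree_eq_le hDN (c := t) fun ψ hψ => by
      obtain ⟨χ, hχ⟩ := exists_irr_liesOver ψ
      exact hNt ψ (fun e1 => e χ (mt (hχ.le_ker_iff hDN).1 hψ) ((hc' χ).1 (e1.trans hχ.degree_dvd)))
        (hlin ((der_succ_le _ 1).trans le_sup_left) ψ (Or.inr (der_succ_le _ 1)) hψ)
  by_cases h4 : der C 1 ≤ Q
  · by_contra h5
    obtain ⟨x, y, z, hx, hy, hz, e1, e2, e3⟩ := chain (hQp.to_le h4) h5
    by_cases e4 : charDegree x.1 = c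
    · exact h5 (fin fun χ hχ e => (e3 χ hχ).ne (by rw [e4, e]))
    have e5 : (N.index * t).factorization r = N.index.factorization r + t.factorization r := by
      rw [Nat.factorization_mul hf0.ne' ht0.ne']; rfl
    have e6 : 0 < t.factorization r ∧ 0 < c.factorization r := by
      rcases (hall x).resolve_left hx with a | a | a <;>
        rcases (hall y).resolve_left hy with b | b | b <;>
        rcases (hall z).resolve_left hz with c | c | c <;> rw [a, b] at e1 <;> rw [b, c] at e2 <;>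
        first | exact absurd a e4 | omega
    have e7 := Nat.dvd_of_factorization_pos e6.1.ne'
    have e8 := GT.hasNormalPComplement_iff_pPrimePCore_eq_top.1
      (hasNormalPComplement_of_degrees (G := G) (p := r) fun χ hχ => by
        rcases (hall χ).resolve_left hχ with a | a | a <;> rw [a]
        · exact e7.trans htf
        · exact e7.mul_left _
        · exact Nat.dvd_of_factorization_pos e6.2.ne')
    rw [GT.pPrimePCore_eq_pCore hO] at e8
    exact hQ (le_top.trans e8.ge)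
  set L := der C 1 ⊔ Q with hL
  have hQL : Q < L := lt_of_le_of_ne le_sup_right fun e => h4 (e ▸ le_sup_left)
  have hLN : L ≤ N := sup_le ((der_le _ _).trans hCN) hQN
  have hLL : ⁅L, L⁆ ≤ Q := der_le_of_map_mk' (N := L) (k := 1) (by
    rw [hL, Subgroup.map_sup, GT.map_mk'_eq_bot_iff.2 (le_refl Q), sup_bot_eq, ← map_der, der_der,
      GT.map_mk'_eq_bot_iff]
    exact hD)
  have hrL : ¬ r ∣ Q.relIndex L := not_dvd_relIndex_pCore_of_commutator_le hLL
  have hDL : der C 2 ≤ ⁅L, L⁆ := Subgroup.commutator_mono le_sup_left le_sup_left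
  by_cases h5 : ∃ χ : IrrCharacter G, Q ≤ ker χ.1 ∧ charDegree χ.1 = c
  · obtain ⟨χ₁, h5, h6⟩ := h5
    have h7 : ∀ χ : IrrCharacter G, Q ≤ ker χ.1 → ¬ L ≤ ker χ.1 → charDegree χ.1 = c := by
      intro χ e1 e2
      obtain ⟨ψ, hψ⟩ := exists_irr_liesUnder N χ
      refine (hc' χ).1 (Dvd.dvd.trans (by_contra fun e3 => ?_) hψ.degree_dvd)
      have e4 := (hψ.le_ker_iff hQN).1 e1
      obtain ⟨ξ, e5, e6⟩ := key ψ e3
      rw [hNt ψ e3 (hlin le_rfl ψ (Or.inl e4) (mt (hψ.le_ker_iff hLN).2 e2))] at e5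
      obtain ⟨ζ, e7⟩ := hlt ξ (e6 e4) (by omega)
      obtain ⟨ζ', e8⟩ := hlt χ₁ h5 fun e => hq1 (e ▸ h6 ▸ hqc)
      have := hall ζ
      have := hall ζ'
      omega
    refine fin fun χ e1 e2 => ?_
    obtain ⟨θ, hθ⟩ := exists_irr_liesUnder Q χ
    have e3 := le_inertia_of_forall_degree_eq hLL h7 hθ (dvd_of_eq e2)
    by_cases e4 : charDegree θ.1 = 1
    · exact e1 (hDL.trans
        (commutator_le_ker_of_le_inertia hQL.le hLL (hQp.coprime_card hrL) e3 e4 hθ))
    obtain ⟨φ, -, e5, χ', e6, e7, e8⟩ := exists_extension_detPow hQp hQL hLL hrL e3 e4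
    obtain ⟨χ'', e9⟩ := exists_irr_liesOver φ
    obtain ⟨ξ, e10, e11, e12⟩ := exists_not_dvd (q := q) hQL.le e5 e9 fun e =>
      (e8 χ'' e9).ne (by rw [h7 χ' e6 e7, (hc' χ'').1 e])
    exact e12 ((hc' ξ).2 (h7 ξ e10 e11))
  push Not at h5
  have h6 : ∀ ξ : IrrCharacter (G ⧸ Q), ¬ q ∣ charDegree ξ.1 := fun ξ e =>
    h5 _ (le_ker_inflate Q ξ) ((hc' _).1 (by rwa [charDegree_inflate]))
  set S := (pCore q (G ⧸ Q)).comap (QuotientGroup.mk' Q) with hS
  have hS1 : ¬ q ∣ S.index := by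
    rw [hS, Subgroup.index_comap_of_surjective _ (QuotientGroup.mk'_surjective Q)]
    exact not_dvd_index_pCore_of_degrees GT.isPSolvable_of_isSolvable h6
  have hS2 : ⁅S, S⁆ ≤ Q := der_le_of_map_mk' (N := S) (k := 1) (by
    rw [hS, Subgroup.map_comap_eq_self_of_surjective (QuotientGroup.mk'_surjective Q)]
    have := isMulCommutative_of_normal_isPGroup_of_degrees h6 (GT.isPGroup_pCore q (G ⧸ Q))
    exact Subgroup.commutator_eq_bot_iff_le_centralizer.2 (Subgroup.le_centralizer (pCore q (G ⧸ Q))))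
  have hS3 : Q ≤ S := GT.le_comap_mk' _ _
  refine commutator_eq_bot_of_forall_degree_eq (c := c) fun χ e1 => by_contra fun e2 => ?_
  obtain ⟨ψ, hψ⟩ := exists_irr_liesUnder N χ
  have e3 := mt (hψ.le_ker_iff hDN).2 e1
  have e4 : ¬ q ∣ charDegree ψ.1 := fun e => e2 ((hc' χ).1 (e.trans hψ.degree_dvd))
  have e5 := hNt ψ e4 (hlin ((der_succ_le _ 1).trans le_sup_left) ψ (Or.inr (der_succ_le _ 1)) e3)
  have h7 : ∀ ξ : IrrCharacter N, Q.subgroupOf N ≤ ker ξ.1 → ¬ L.subgroupOf N ≤ ker ξ.1 →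
      charDegree ξ.1 = t := fun ξ a1 a2 => by
    obtain ⟨ζ, hζ⟩ := exists_irr_liesOver ξ
    exact hNt ξ (fun e => h5 ζ ((hζ.le_ker_iff hQN).2 a1) ((hc' ζ).1 (e.trans hζ.degree_dvd)))
      (hlin le_rfl ξ (Or.inl a1) a2)
  have hLL' : ⁅L.subgroupOf N, L.subgroupOf N⁆ ≤ Q.subgroupOf N := by
    rw [commutator_subgroupOf_eq hLN hLN]; exact subgroupOf_le_subgroupOf hLL N
  have hQL' : Q.subgroupOf N < L.subgroupOf N := lt_of_le_of_ne (subgroupOf_le_subgroupOf hQL.le N)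
    fun e => hQL.not_ge fun x hx => (e.ge (x := ⟨x, hLN hx⟩) hx :)
  have hQp' : IsPGroup r (Q.subgroupOf N) := hQp.comap_subtype
  have hrL' : ¬ r ∣ (Q.subgroupOf N).relIndex (L.subgroupOf N) := by
    rwa [Subgroup.relIndex_subgroupOf hLN]
  obtain ⟨θ, hθ⟩ := exists_irr_liesUnder (Q.subgroupOf N) ψ
  have e6 := le_inertia_of_forall_degree_eq hLL' h7 hθ (dvd_of_eq e5)
  by_cases e7 : charDegree θ.1 = 1
  · refine e3 (le_trans ?_
      (commutator_le_ker_of_le_inertia hQL'.le hLL' (hQp'.coprime_card hrL') e6 e7 hθ))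
    rw [commutator_subgroupOf_eq hLN hLN]; exact subgroupOf_le_subgroupOf hDL N
  obtain ⟨φ, e8, -, χ', e9, e10, e11⟩ := exists_extension_detPow hQp' hQL' hLL' hrL' e6 e7
  obtain ⟨ψ', e12⟩ := exists_irr_liesOver φ
  have e13 := e12.trans_le hQL'.le (irr_isCharacter _) (irr_isCharacter θ)
    (liesOverLe_of_resLe_eq e8)
  have e14 := e11 ψ' e12
  refine e4 (dvd_of_liesOver hq (subgroupOf_le_subgroupOf hS3 N) (fun x hx => hS2 ?_)
    (fun e => hS1 (e.trans (S.relIndex_dvd_index_of_normal N))) hθ e13 (by_contra fun e => ?_))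
  · have := Subgroup.mem_map_of_mem N.subtype hx
    rw [Subgroup.map_commutator, Subgroup.subgroupOf_map_subtype] at this
    exact Subgroup.commutator_mono inf_le_left inf_le_left this
  · rw [h7 χ' e9 e10, hNt ψ' e (fun a => by simp [a] at e14)] at e14
    exact e14.false

theorem main (G : Type u) [Group G] [Finite G] : Group.IsSolvable G →
    (charDegrees G).ncard ≤ 4 → der (commutator G) 3 = ⊥ := by
  refine GT.induction_on_card (P := fun G _ _ => Group.IsSolvable G →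
    (charDegrees G).ncard ≤ 4 → der (commutator G) 3 = ⊥) ?_ G
  intro G _ _ ih _ h
  by_contra h1
  obtain ⟨r, hr, -, hO⟩ := exists_prime_of_forall_le h1 fun M hM h2 => der_le_of_map_mk' (by
    rw [map_mk'_commutator]
    exact ih (G ⧸ M) (GT.card_quotient_lt h2) inferInstance
      ((Set.ncard_le_ncard (charDegrees_quotient_subset M) finite_charDegrees).trans h))
  have := Fact.mk hr
  have h2 := ncard_relCharDegrees_commutator (G := G)
  have hQ : ¬ commutator G ≤ pCore r G := fun e =>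
    h1 (der_eq_bot_of_isPGroup 3 ((GT.isPGroup_pCore r G).to_le e) (by omega))
  have hF := GT.fitting_eq_pCore_of_pPrimeCore_eq_bot hO
  have h3 := ncard_relCharDegrees_map_lt (inf_le_left.trans hF.le) hQ
  have hD : der (commutator G) 2 ≤ pCore r G := der_le_of_map_mk' (by
    rw [map_mk'_commutator] at h3 ⊢
    exact der_two_eq_bot_of_ncard_le_two (by omega))
  have hlt : ∀ χ : IrrCharacter G, pCore r G ≤ ker χ.1 → charDegree χ.1 ≠ 1 →
      ∃ ψ : IrrCharacter G, charDegree χ.1 < charDegree ψ.1 := fun χ e1 e2 =>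
    (exists_degree_lt_of_fitting_inf_le (N := commutator G)
      (mt (irr_degree_eq_one_iff_commutator_le_ker χ).2 e2)
      (inf_le_left.trans (hF.le.trans e1))).imp fun _ e => e.2
  obtain ⟨K, hK, hQK⟩ := exists_isMaxNonab_ge inferInstance hQ
  have := hK.normal
  rcases hK.dichotomy_of_isSolvable with ⟨p, hp, e, -⟩ | e
  · have := Fact.mk hp
    exact h1 (pcase h hlt hK hQK e)
  · exact h1 (fcase h hO hQ hD hlt hK.isChief hQK le_sup_left hK.not_le le_rfl e)

/-- A finite solvable group with exactly four distinct irreducible complex character degrees has trivial fourth derived subgroup (derived length at most 4). -/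
theorem result {G : Type*} [Group G] [Finite G] [Group.IsSolvable G] (hcd : Nat.card ↥(Cfsg.charDegrees G) = 4) : derivedSeries G 4 = ⊥ := by
  rw [← der_commutator]
  exact main G inferInstance (le_of_eq hcd)

end Cfsg.Agent.S4783
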