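import Cfsg.Statements.S4811
import Cfsg.Agent.Lib.Char.DegGraph

set_option autoImplicit false
open Cfsg

namespace Cfsg.Agent.S4811

open CT

/-- For every finite solvable group G the character degree graph of G (vertices: the primes dividing some irreducible complex character degree; edges: distinct primes whose product divides some degree) has at most two connected components. -/
theorem result {G : Type*} [Group G] [Finite G] [Group.IsSolvable G] : Nat.card ((Cfsg.degreeGraph G).induce (Cfsg.degreePrimes G)).ConnectedComponent ≤ 2 := by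
  by_cases h : IsMulCommutative G
  · have : IsEmpty (degreePrimes G) := ⟨fun ⟨p, hp, d, ⟨χ, hχ⟩, hd⟩ => by
      rw [← hχ, irr_degree_eq_one_of_isMulCommutative] at hd
      exact hp.one_lt.ne' (Nat.dvd_one.1 hd)⟩
    have : IsEmpty ((degreeGraph G).induce (degreePrimes G)).ConnectedComponent :=
      ⟨fun c => by rcases c with ⟨v⟩; exact isEmptyElim v⟩
    simp
  obtain ⟨f, q, hf, hf1, hq, H⟩ := exists_degree_and_prime h
  obtain ⟨r, hr, hrf⟩ := Nat.exists_prime_and_dvd hf1
  let a : degreePrimes G := ⟨r, hr, f, hf, hrf⟩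
  by_cases hqG : q ∈ degreePrimes G
  · refine card_connectedComponent_le_two _ a ⟨q, hqG⟩ fun v => ?_
    obtain ⟨_, ⟨χ, rfl⟩, hd⟩ := v.2.2
    rcases H χ with h1 | ⟨d, h1, h2, h3⟩
    · exact Or.inr (reachable_degreeGraph (mem_charDegrees χ) hd h1)
    · exact Or.inl (reachable_degreeGraph h1 (hd.trans h3) (hrf.trans h2))
  · refine card_connectedComponent_le_two _ a a fun v => ?_
    obtain ⟨_, ⟨χ, rfl⟩, hd⟩ := v.2.2
    rcases H χ with h1 | ⟨d, h1, h2, h3⟩
    · exact absurd ⟨hq, _, mem_charDegrees χ, h1⟩ hqG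
    · exact Or.inl (reachable_degreeGraph h1 (hd.trans h3) (hrf.trans h2))

end Cfsg.Agent.S4811
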