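import Cfsg.Statements.S4848
import Cfsg.Agent.S4558
import Cfsg.Agent.Lib.Char.Degrees
import Cfsg.Agent.Lib.Char.Galois
import Cfsg.Agent.Lib.Grp.Frob

set_option autoImplicit false
open Cfsg

namespace Cfsg.Agent.S4848

open CT GT
open scoped commutatorElement

theorem mem_center_of_ne_zero (H : Type*) [Group H] [Group.IsNilpotent H] : Finite H →
    ∀ g : H, (∀ χ : IrrCharacter H, χ.1 g ≠ 0) → g ∈ Subgroup.center H := by
  refine Group.nilpotent_center_quotient_ind (P := fun H _ _ => Finite H →
    ∀ g : H, (∀ χ : IrrCharacter H, χ.1 g ≠ 0) → g ∈ Subgroup.center H) H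
    (fun H _ _ _ g _ => Subsingleton.elim 1 g ▸ one_mem _) fun H _ _ ih _ g hg =>
    Subgroup.mem_center_iff.2 fun x => commutatorElement_eq_one_iff_mul_comm.1 (by_contra fun h => ?_)
  obtain ⟨χ, hχ⟩ := exists_irr_apply_ne h
  have h1 : ⁅x, g⁆ ∈ Subgroup.center H := (QuotientGroup.eq_one_iff _).1
    ((map_commutatorElement (QuotientGroup.mk' _) x g).trans (commutatorElement_eq_one_iff_mul_comm.2
      (Subgroup.mem_center_iff.1 (ih inferInstance g fun ψ => hg (inflate _ ψ)) _)))
  have h2 := irr_apply_central_mul χ h1 g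
  rw [commutatorElement_def, inv_mul_cancel_right, irr_isClassFunction, eq_comm,
    mul_eq_right₀ (hg χ), div_eq_one_iff_eq (irr_apply_one_ne_zero χ)] at h2
  exact hχ h2


/-- Let p be a prime and G a finite non-commutative group in which every vanishing element (an element at which some irreducible character is zero) has order a positive power of p. Then either G is a p-group, or the centre of G equals O_p(G) and G/Z(G) is a Frobenius group with a Frobenius complement of p-power order. -/
theorem result {G : Type*} [Group G] [Finite G] (hna : ¬ IsMulCommutative G) (p : ℕ) [Fact p.Prime] (hvan : ∀ g : G, (∃ χ : Cfsg.IrrCharacter G, (χ : G → ℂ) g = 0) → ∃ m : ℕ, 1 ≤ m ∧ orderOf g = p ^ m) :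
    IsPGroup p G ∨ (Subgroup.center G = Cfsg.pCore p G ∧ ∃ H : Subgroup (G ⧸ Subgroup.center G), Cfsg.IsFrobeniusComplement H ∧ IsPGroup p H) := by
  have hp : p.Prime := Fact.out
  have h0 : ∀ g : G, ¬ IsPElt p g → ∀ χ : IrrCharacter G, χ.1 g ≠ 0 := fun g hg χ h =>
    hg ((hvan g ⟨χ, h⟩).imp fun _ h => h.2)
  have h1 : HasNormalPComplement p G := hasNormalPComplement_of_degrees fun χ h => by
    obtain ⟨g, hg⟩ := irr_exists_apply_eq_zero χ h
    exact S4558.result p _ (irr_isCharacter χ) g (by_contra fun h => h0 g h χ hg) hg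
  obtain ⟨P⟩ : Nonempty (Sylow p G) := inferInstance
  have hc := isComplement'_pPrimeCore_sylow h1 P
  set N := pPrimeCore p G with hN
  have hQ : IsPGroup p (G ⧸ N) :=
    .of_card (hasNormalPComplement_iff_index_pPrimeCore.1 h1).choose_spec
  have key : ∀ y ∈ (P : Subgroup G), ∀ n ∈ N, n ≠ 1 → Commute y n → y ∈ Subgroup.center G := by
    intro y hy n hn h2 h3
    have h4 := h0 (y * n) fun h => h2 (((isPElt_of_mem_sylow P hy).inv.mul_of_commute h
      (((Commute.refl y).mul_right h3).inv_left)).eq_one_of_isPRegular (by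
        rw [inv_mul_cancel_left]
        exact fun h => not_dvd_card_pPrimeCore p G (h.trans (N.orderOf_dvd_natCard hn))) ▸
      (inv_mul_cancel_left y n).symm)
    have := hQ.isNilpotent
    have h5 := Subgroup.mem_center_iff.1 (mem_center_of_ne_zero _ inferInstance
      ((y * n : G) : G ⧸ N) fun ψ => h4 (inflate _ ψ))
    have h6 : (y : G ⧸ N) = (y * n : G) := QuotientGroup.eq.2 (by simpa)
    have h7 := le_centralizer_of_forall_smul_eq (A := Subgroup.zpowers y) (N := N)
      ⟨Subgroup.le_normalizer_of_normal, (hc.index_eq_card ▸ hc.symm.index_eq_card ▸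
        P.card_coprime_index.symm : (Nat.card N).Coprime (Nat.card P)).coprime_dvd_right
        (Subgroup.card_dvd_of_le (Subgroup.zpowers_le_of_mem hy)), Or.inr inferInstance⟩
      fun a ha θ => Subgroup.zpowers_le_of_mem (H := MulAction.stabilizer G θ) (by
        obtain ⟨χ, hχ⟩ := exists_irr_liesOver θ
        obtain ⟨ψ, -, h7, -⟩ := exists_clifford_correspondent hχ
        by_contra h
        refine h4 χ (h7 ▸ ind_apply_eq_zero _ fun x hx => h ?_)
        rw [MulAction.mem_stabilizer_iff, conjSmul_eq_of_coe_eq (g' := x⁻¹ * (y * n) * x)]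
        · exact hx
        · rw [h6, QuotientGroup.mk_mul _ _ x, QuotientGroup.mk_mul _ x⁻¹, mul_assoc, ← h5]
          simp) ha
    refine Subgroup.centralizer_eq_top_iff_subset.1 (eq_top_iff.2 (hc.sup_eq_top ▸ sup_le
      (fun m hm => Subgroup.mem_centralizer_singleton_iff.2
        (h7 hm y (Subgroup.mem_zpowers y)).symm) fun x hx => ?_)) (Set.mem_singleton y)
    refine Subgroup.mem_centralizer_singleton_iff.2 (commutatorElement_eq_one_iff_mul_comm.1
      (Subgroup.disjoint_def.1 hc.disjoint ((QuotientGroup.eq_one_iff _).1 ?_)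
        (mul_mem (mul_mem (mul_mem hx hy) (inv_mem hx)) (inv_mem hy))))
    exact (map_commutatorElement (QuotientGroup.mk' N) x y).trans
      (commutatorElement_eq_one_iff_mul_comm.2 (show (x : G ⧸ N) * y = y * x from h6 ▸ h5 x))
  have h2 : ¬ (P : Subgroup G) ≤ Subgroup.center G := fun h => hna ⟨⟨fun a b => by_contra fun h' => by
    obtain ⟨χ, hχ⟩ : ∃ χ : IrrCharacter G, charDegree χ.1 ≠ 1 := by
      by_contra! h3
      obtain ⟨χ, hχ⟩ := exists_irr_not_mem_ker (mt commutatorElement_eq_one_iff_mul_comm.1 h')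
      exact hχ ((irr_commutator_le_ker_iff χ).2 (h3 χ) (Subgroup.commutator_mem_commutator trivial trivial))
    obtain ⟨g, hg⟩ := irr_exists_apply_eq_zero χ hχ
    obtain ⟨x, hx⟩ := IsPElt.exists_conj_mem_sylow (by_contra fun h => h0 g h χ hg) P
    have := (irr_mem_center_iff χ).1 (center_le_irr_center χ (h hx))
    rw [irr_isClassFunction, hg, norm_zero, eq_comm, Nat.cast_eq_zero] at this
    exact (irr_degree_pos χ).ne' this⟩⟩
  have h3 : ∀ n ∈ N, n ∈ Subgroup.center G → n = 1 := fun n hn h => by_contra fun h' =>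
    h2 fun y hy => key y hy n hn h' (Subgroup.mem_center_iff.1 h y)
  refine or_iff_not_imp_left.2 fun hG => ?_
  obtain ⟨⟨n, hn⟩, h4⟩ := Subgroup.ne_bot_iff_exists_ne_one.1 fun h : N = ⊥ =>
    hG (hQ.of_injective (QuotientGroup.mk' N) ((MonoidHom.ker_eq_bot_iff _).1 (by simpa using h)))
  replace h4 : n ≠ 1 := fun h => h4 (Subtype.ext h)
  let π := QuotientGroup.mk' (Subgroup.center G)
  have hπ : Function.Surjective π := QuotientGroup.mk'_surjective _
  have := Subgroup.Normal.map (H := N) inferInstance π hπ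
  refine ⟨(le_pCore (hQ.of_injective ((QuotientGroup.mk' N).comp (Subgroup.subtype _))
    ((injective_iff_map_eq_one _).2 fun z hz => Subtype.ext
      (h3 z ((QuotientGroup.eq_one_iff _).1 hz) z.2)))).antisymm fun y hy => key y
      (pCore_le_sylow P hy) n hn h4 (pCore_le_centralizer_pPrimeCore hy n hn).symm,
    (P : Subgroup G).map π, FrobAct.isFrobeniusComplement (N := N.map π)
      ⟨Subgroup.le_normalizer_of_normal, ?_⟩ (by
        rw [← Subgroup.map_sup, hc.sup_eq_top, Subgroup.map_top_of_surjective _ hπ])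
      (fun h => h2 (by simpa [π] using (Subgroup.map_eq_bot_iff _).1 h))
      fun h => h4 (h3 n hn (by simpa [π] using (Subgroup.map_eq_bot_iff _).1 h hn)), P.2.map π⟩
  rintro _ ⟨y, hy, rfl⟩ h5 _ ⟨m, hm, rfl⟩ h6
  by_contra h7
  refine h5 ((QuotientGroup.eq_one_iff _).2 (key y hy m hm (fun h => h7 (h ▸ map_one π))
    (commutatorElement_eq_one_iff_commute.1 (h3 _ (mul_mem (Subgroup.Normal.conj_mem inferInstance m hm y)
      (inv_mem hm)) ((QuotientGroup.eq_one_iff _).1 ?_)))))
  exact (map_commutatorElement π y m).trans (commutatorElement_eq_one_iff_mul_comm.2 h6.symm)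

end Cfsg.Agent.S4848
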