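import Cfsg.Statements.S4903
import Cfsg.Agent.Lib.Block.Co19

set_option autoImplicit false
open Cfsg

namespace Cfsg.Agent.S4903

open CT BT GT


/-- Let G be a finite group with a faithful irreducible complex character of degree 16, p a prime with p ≥ 19, and P a Sylow p-subgroup of G. Then P is normal in G, or p = 31 and the quotient of G by its centre is isomorphic to PSL(2,31). -/
theorem result {G : Type*} [Group G] [Finite G] (χ : Cfsg.IrrCharacter G) (hdeg : Cfsg.charDegree (χ : G → ℂ) = 16) (hfaith : ∀ g : G, (χ : G → ℂ) g = (χ : G → ℂ) 1 → g = 1) (p : ℕ) [Fact p.Prime] (hp : 19 ≤ p) (P : Sylow p G) : (P : Subgroup G).Normal ∨ (p = 31 ∧ Nonempty (G ⧸ Subgroup.center G ≃* Matrix.ProjectiveSpecialLinearGroup (Fin 2) (ZMod 31))) := by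
  have hp' : p.Prime := Fact.out
  refine or_iff_not_imp_left.2 fun h => ?_
  rcases lin_red χ ((irr_isCharacter χ).ker_eq_bot_iff.2 hfaith) (by omega)
    (by_contra fun h' => h ((normal_sylow_iff_not_dvd_index_pCore P).2 h')) with
    ⟨h1, -⟩ | ⟨S, ι, Z, l, F, h1, h2⟩
  · rw [show p = 33 by omega] at hp'
    norm_num at hp'
  obtain ⟨h3, ⟨e⟩⟩ := (F.cases (by omega) (by omega)).resolve_right (by omega)
  obtain rfl : p = 31 := by omega
  obtain ⟨e'⟩ := nonempty_quot_center_equiv h2
  exact ⟨rfl, ⟨e'.trans e⟩⟩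

end Cfsg.Agent.S4903
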