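import Cfsg.Statements.S4904
import Cfsg.Agent.Lib.Block.CoAlt
import Cfsg.Agent.S4705
import Cfsg.Agent.Lib.Grp.Zass3

set_option autoImplicit false
open Cfsg

namespace Cfsg.Agent.S4904

open CT BT GT
open scoped IsMulCommutative

/-- Let G be a finite group with a faithful irreducible complex character of degree d < 27, and p a prime with p > d + 1 and P a Sylow p-subgroup of G. Then one of the following holds: P is normal in G; the quotient of G by its centre is isomorphic to PSL(2,p) and 2d = p + 1 or 2d = p − 1; p = 17, d = 15 and G is isomorphic to the direct product of SL(2,16) with an abelian group; p = 7, d = 4 and G modulo its centre is the alternating group of degree 7; p = 5, d = 3 and G modulo its centre is the alternating group of degree 6. -/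
theorem result {G : Type*} [Group G] [Finite G] (d : ℕ) (hd : d < 27) (χ : Cfsg.IrrCharacter G) (hdeg : Cfsg.charDegree (χ : G → ℂ) = d) (hfaith : ∀ g : G, (χ : G → ℂ) g = (χ : G → ℂ) 1 → g = 1) (p : ℕ) [Fact p.Prime] (hp : d + 1 < p) (P : Sylow p G) : (P : Subgroup G).Normal ∨ (Nonempty (G ⧸ Subgroup.center G ≃* Matrix.ProjectiveSpecialLinearGroup (Fin 2) (ZMod p)) ∧ (2 * d = p + 1 ∨ 2 * d = p - 1)) ∨ (p = 17 ∧ d = 15 ∧ ∃ (A : Type) (_ : CommGroup A) (_ : Finite A), Nonempty (G ≃* Matrix.SpecialLinearGroup (Fin 2) (GaloisField 2 4) × A)) ∨ (p = 7 ∧ d = 4 ∧ Nonempty (G ⧸ Subgroup.center G ≃* ↥(alternatingGroup (Fin 7)))) ∨ (p = 5 ∧ d = 3 ∧ Nonempty (G ⧸ Subgroup.center G ≃* ↥(alternatingGroup (Fin 6)))) := by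
  have hp' : p.Prime := Fact.out
  refine or_iff_not_imp_left.2 fun h => ?_
  rcases lin_red χ ((irr_isCharacter χ).ker_eq_bot_iff.2 hfaith) (by omega)
    (by_contra fun h' => h ((normal_sylow_iff_not_dvd_index_pCore P).2 h')) with
    ⟨h1, h2⟩ | ⟨S, ι, Z, l, F, h1, h2⟩
  · exact Or.inl ⟨h2, by omega⟩
  obtain ⟨e⟩ := nonempty_quot_center_equiv h2
  have h3 := F.deg l
  have h4 := F.syl.two_mul_card_autN_le F.lt
  by_cases h5 : p = 5
  · exact (F.of_five h5).imp (fun ⟨f⟩ => ⟨⟨e.trans f⟩, by omega⟩) fun ⟨f⟩ =>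
      Or.inr (Or.inr ⟨h5, by omega, ⟨e.trans f⟩⟩)
  by_cases h6 : d + 2 = p
  · obtain ⟨a, K, _, _, h7, h8, ⟨f⟩⟩ := S4705.main F.syl (by
      have : p ≠ 6 := by rintro rfl; norm_num at hp'
      omega) (Z l) F.faith (by omega) F.not_le_center
    obtain rfl : a = 4 := by
      have : a < 5 := (Nat.pow_lt_pow_iff_right one_lt_two).1 (by omega)
      subst h7
      interval_cases a <;> first | rfl | omega | norm_num at hp'
    have h9 : ∀ z : Subgroup.center S, z = 1 := fun z => by
      simpa [Subgroup.mem_prod] using Abelianization.commutator_subset_ker ((MonoidHom.snd _ _).comp f.toMonoidHom)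
        (F.perfect.ge (Subgroup.mem_top (f.symm (1, z))))
    have : Unique (Subgroup.center S) := ⟨⟨1⟩, h9⟩
    have := Fintype.ofFinite (GaloisField 2 4)
    have h10 := (Subgroup.isComplement'_of_disjoint_and_mul_eq_univ (H := S) (K := Subgroup.center G)
      (Subgroup.disjoint_def.2 fun {z} hz hz' => congrArg (fun x => (x.1 : G)) (h9 ⟨⟨z, hz⟩,
        Subgroup.mem_center_iff.2 fun g => Subtype.ext (Subgroup.mem_center_iff.1 hz' g)⟩))
      (by rw [← Subgroup.mul_normal, h2, Subgroup.coe_top]))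
    refine Or.inr (Or.inl ⟨by omega, by omega, Shrink.{0} (Subgroup.center G), inferInstance,
      inferInstance, ⟨(MulEquiv.ofBijective (S.subtype.noncommCoprod (Subgroup.center G).subtype
        fun s z => Subgroup.mem_center_iff.1 z.2 s) h10).symm.trans
      (((f.trans MulEquiv.prodUnique).trans (slCongr (FiniteField.ringEquivOfCardEq ?_))).prodCongr
        Shrink.mulEquiv.symm)⟩⟩)
    rw [h8, ← Nat.card_eq_fintype_card, GaloisField.card _ _ (by norm_num)]
  by_cases h7 : 7 < p
  · obtain ⟨h8, ⟨f⟩⟩ := (F.cases h7 (by omega)).resolve_right (by omega)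
    exact Or.inl ⟨⟨e.trans f⟩, by omega⟩
  obtain rfl : p = 7 := by
    have : p ≠ 6 := by rintro rfl; norm_num at hp'
    omega
  exact (F.of_seven rfl (by omega)).imp (fun ⟨f⟩ => ⟨⟨e.trans f⟩, by omega⟩) fun ⟨f⟩ =>
    Or.inr (Or.inl ⟨rfl, by omega, ⟨e.trans f⟩⟩)

end Cfsg.Agent.S4904
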